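import Cfsg.Agent.Fusion.PSU.Unipotent

/-!
The standard unipotent subgroup is a Sylow subgroup; the two radicals.
-/

set_option autoImplicit false
set_option linter.unusedSectionVars false
set_option linter.unusedSimpArgs false
set_option linter.unnecessarySeqFocus false

namespace Cfsg.Lib.Fusion.PSU

open Matrix Cfsg.Lib.Classical Cfsg.Lib.Known.AutPSLn

variable {F : Type*} [Field F] [Fintype F] {σ : F →+* F} {hσ : IsConj σ} {n : ℕ}

theorem finite_subgroup_inv {G : Type*} [Group G] [Finite G] {s : Set G} (h1 : (1 : G) ∈ s)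
    (hm : ∀ a ∈ s, ∀ b ∈ s, a * b ∈ s) {g : G} (hg : g ∈ s) : g⁻¹ ∈ s := by
  have key : ∀ k : ℕ, g ^ k ∈ s := by
    intro k
    induction k with
    | zero => rwa [pow_zero]
    | succ k ih => rw [pow_succ]; exact hm _ ih _ hg
  rw [show g⁻¹ = g ^ (orderOf g - 1) from (eq_inv_of_mul_eq_one_left (by
    rw [← pow_succ, Nat.sub_add_cancel (orderOf_pos g), pow_orderOf_eq_one])).symm]
  exact key _

theorem isPGroup_sylU (p : ℕ) [Fact p.Prime] [CharP F p] : IsPGroup p (sylU n hσ) := by
  obtain ⟨Q, hQ⟩ := exists_sylow_upperUni (F := F) (n := n) p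
  exact (hQ ▸ Q.2).comap_of_injective (antiSU n hσ).subtype Subtype.val_injective

/-- The normalizer of the unipotent group is upper triangular. -/
theorem upper_of_conj {g : antiSU n hσ} (h : ∀ u ∈ sylU n hσ, g⁻¹ * u * g ∈ sylU n hσ) :
    ∀ k j : Fin n, k < j → mat g j k = 0 := by
  classical
  intro k
  induction k using WellFoundedLT.induction with
  | _ k ih =>
  by_contra hne
  push Not at hne
  obtain ⟨j, hj, hmax⟩ := (Finset.univ.filter fun j : Fin n => k < j ∧ mat g j k ≠ 0).exists_max_image id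
    (by obtain ⟨j, h1, h2⟩ := hne; exact ⟨j, by simp [h1, h2]⟩)
  simp only [Finset.mem_filter, Finset.mem_univ, true_and, id] at hj hmax
  obtain ⟨hkj, hjne⟩ := hj
  have hpos : 0 < j.1 := lt_of_le_of_lt (Nat.zero_le _) (Fin.lt_def.1 hkj)
  obtain ⟨r, hrj⟩ : ∃ r : Fin n, r.1 + 1 = j.1 :=
    ⟨⟨j.1 - 1, lt_of_le_of_lt (Nat.sub_le _ _) j.2⟩, Nat.sub_add_cancel hpos⟩
  have hkr : k ≤ r := Fin.le_def.2 (by have := Fin.lt_def.1 hkj; omega)
  obtain ⟨u, hu, hur⟩ := exists_pivot (hσ := hσ) hrj
  have hv := h u hu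
  have he : mat u * mat g = mat g * mat (g⁻¹ * u * g) := by
    rw [← mat_mul, ← mat_mul]; congr 1; group
  generalize g⁻¹ * u * g = v at hv he
  have h1 : (mat g * mat v) r k = mat g r k := by
    rw [Matrix.mul_apply, Finset.sum_eq_single k, mem_sylU.mp hv k k le_rfl, if_pos rfl, mul_one]
    · intro i _ hi
      rcases lt_or_gt_of_ne hi with hlt | hgt
      · rw [ih i hlt r (hlt.trans_le hkr), zero_mul]
      · rw [mem_sylU.mp hv i k hgt.le, if_neg hi, mul_zero]
    · simp
  have hrlt : r < j := Fin.lt_def.2 (by omega)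
  rw [← he, Matrix.mul_apply, ← Finset.sum_subset (Finset.subset_univ {r, j}), Finset.sum_pair hrlt.ne,
    mem_sylU.mp hu r r le_rfl, if_pos rfl, one_mul, add_eq_left] at h1
  · exact hjne ((mul_eq_zero.mp h1).resolve_left hur)
  · intro x _ hx
    simp only [Finset.mem_insert, Finset.mem_singleton, not_or] at hx
    rcases lt_or_gt_of_ne hx.1 with hlt | hgt
    · rw [mem_sylU.mp hu r x hlt.le, if_neg (Ne.symm hx.1), zero_mul]
    · have hxj : j < x := lt_of_le_of_ne (Fin.le_def.2 (by have := Fin.lt_def.1 hgt; omega)) (Ne.symm hx.2)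
      by_cases h0 : mat g x k = 0
      · rw [h0, mul_zero]
      · exact absurd (hmax x ⟨hkj.trans hxj, h0⟩) hxj.not_ge

/-- The conditions on a diagonal element. -/
theorem diag_rel {d : Fin n → F} {t : antiSU n hσ} (ht : mat t = diagonal d) (a : Fin n) :
    d a * σ (d a.rev) = 1 := by
  have h := congrFun (congrFun (congrArg mat (mul_inv_cancel t)) a) a
  rw [mat_mul, mat_one, Matrix.one_apply_eq, ht, Matrix.diagonal_mul, inv_apply, ht,
    Matrix.diagonal_apply_eq] at h
  exact h

theorem exists_torus_mul {g : antiSU n hσ} (h : ∀ u ∈ sylU n hσ, g⁻¹ * u * g ∈ sylU n hσ) :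
    ∃ (t : antiSU n hσ) (d : Fin n → F), mat t = diagonal d ∧ ∃ u ∈ sylU n hσ, g = t * u := by
  have hup := upper_of_conj h
  set d : Fin n → F := fun k => mat g k k with hdd
  have hdet : ∏ k, d k = 1 := by
    rw [← det_mat g, Matrix.det_of_isUpperTriangular fun i j (hij : j < i) => hup j i hij]
  have hd : ∀ a, d a * σ (d a.rev) = 1 := fun a => by
    have h1 := congrFun (congrFun (congrArg mat (mul_inv_cancel g)) a) a
    rw [mat_mul, mat_one, Matrix.one_apply_eq, Matrix.mul_apply, Finset.sum_eq_single a, inv_apply] at h1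
    · exact h1
    · intro x _ hx
      rcases lt_or_gt_of_ne hx with hlt | hgt
      · rw [hup x a hlt, zero_mul]
      · rw [inv_apply, hup x.rev a.rev (Fin.rev_lt_rev.mpr hgt), map_zero, mul_zero]
    · simp
  let t : antiSU n hσ := mk (diagonal d) (by
    have e : adj σ (diagonal d) = diagonal fun a => σ (d a.rev) := by
      ext a b
      by_cases hab : a = b
      · simp [adj_apply, hab]
      · simp [adj_apply, hab, Ne.symm hab]
    rw [e, diagonal_mul_diagonal, ← diagonal_one]
    exact congrArg diagonal (funext fun a => (mul_comm _ _).trans (hd a))) (by rw [det_diagonal, hdet])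
  refine ⟨t, d, rfl, t⁻¹ * g, ?_, by group⟩
  rw [mem_sylU]
  intro i j hji
  rw [mat_mul, mat_inv, show mat t = diagonal d from rfl]
  have e : adj σ (diagonal d) = diagonal fun a => σ (d a.rev) := by
    ext a b
    by_cases hab : a = b
    · simp [adj_apply, hab]
    · simp [adj_apply, hab, Ne.symm hab]
  rw [e, Matrix.diagonal_mul]
  rcases eq_or_ne i j with rfl | hij
  · rw [if_pos rfl]
    exact (mul_comm _ _).trans (hd i)
  · rw [if_neg hij, hup j i (lt_of_le_of_ne hji hij.symm), mul_zero]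

theorem torus_conj_sylU {d : Fin n → F} {t u : antiSU n hσ} (ht : mat t = diagonal d)
    (hu : u ∈ sylU n hσ) : t * u * t⁻¹ ∈ sylU n hσ := by
  rw [mem_sylU]
  intro i j hji
  rw [mat_mul, mat_mul, Matrix.mul_apply, Finset.sum_eq_single j]
  · rw [ht, Matrix.diagonal_mul, mem_sylU.mp hu i j hji, inv_apply, ht, Matrix.diagonal_apply_eq]
    rcases eq_or_ne i j with rfl | hij
    · rw [if_pos rfl, mul_one]; exact diag_rel ht i
    · rw [if_neg hij, mul_zero, zero_mul]
  · intro x _ hx
    rw [inv_apply, ht, Matrix.diagonal_apply_ne _ (fun e => hx (Fin.rev_inj.mp e).symm), map_zero, mul_zero]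
  · simp

theorem exists_sylow (p : ℕ) [Fact p.Prime] [CharP F p] :
    ∃ Q : Sylow p (antiSU n hσ), (Q : Subgroup (antiSU n hσ)) = sylU n hσ := by
  obtain ⟨Q, hQ⟩ := (isPGroup_sylU (hσ := hσ) (n := n) p).exists_le_sylow
  refine ⟨Q, le_antisymm (fun x hx => ?_) hQ⟩
  by_contra hxU
  have : Group.IsNilpotent (Q : Subgroup (antiSU n hσ)) := Q.2.isNilpotent
  set H := (sylU n hσ).subgroupOf (Q : Subgroup (antiSU n hσ))
  have hH : H < ⊤ := lt_top_iff_ne_top.mpr fun h => hxU (Subgroup.mem_subgroupOf.mp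
    (show (⟨x, hx⟩ : (Q : Subgroup (antiSU n hσ))) ∈ H by rw [h]; trivial))
  obtain ⟨⟨y, hyQ⟩, hyN, hyH⟩ := SetLike.exists_of_lt (Group.normalizerCondition_of_isNilpotent H hH)
  refine hyH (Subgroup.mem_subgroupOf.mpr ?_)
  show y ∈ sylU n hσ
  have hconj : ∀ u ∈ sylU n hσ, y⁻¹ * u * y ∈ sylU n hσ := fun u hu => by
    have h1 := (Subgroup.mem_normalizer_iff''.mp hyN ⟨u, hQ hu⟩).mp (Subgroup.mem_subgroupOf.mpr hu)
    simpa [H, Subgroup.mem_subgroupOf] using h1
  obtain ⟨t, d, ht, u, hu, rfl⟩ := exists_torus_mul hconj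
  suffices t = 1 by rwa [this, one_mul]
  have hT : t ∈ (Q : Subgroup (antiSU n hσ)) := by simpa [mul_assoc] using mul_mem hyQ (inv_mem (hQ hu))
  obtain ⟨k, hk⟩ := Q.2 ⟨_, hT⟩
  have key : ∀ e : ℕ, mat (t ^ e) = diagonal (fun a => d a ^ e) := by
    intro e
    induction e with
    | zero => simp [mat_one]
    | succ e ih => rw [pow_succ, mat_mul, ih, ht, diagonal_mul_diagonal]; simp [pow_succ]
  have h2 := key (p ^ k)
  rw [show t ^ p ^ k = 1 from congrArg Subtype.val hk, mat_one, ← diagonal_one, diagonal_eq_diagonal_iff] at h2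
  refine mat_injective ?_
  rw [ht, mat_one, ← diagonal_one, diagonal_eq_diagonal_iff]
  intro i
  have h5 : (d i - 1) ^ p ^ k = 0 := by rw [sub_pow_char_pow, ← h2 i, one_pow, sub_self]
  exact sub_eq_zero.mp (pow_eq_zero_iff (pow_ne_zero _ (Fact.out : p.Prime).ne_zero) |>.mp h5)

/-- Elements preserving the standard maximal isotropic subspace. -/
noncomputable def siegelStab (n : ℕ) (hσ : IsConj σ) : Subgroup (antiSU n hσ) where
  carrier := {g | ∀ a s : Fin n, s < s.rev → a.rev ≤ a → mat g a s = 0}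
  one_mem' a s hs ha := by
    rw [mat_one, Matrix.one_apply_ne]
    rintro rfl
    exact hs.not_ge ha
  mul_mem' {g h} hg hh a s hs ha := by
    rw [mat_mul, Matrix.mul_apply]
    refine Finset.sum_eq_zero fun x _ => ?_
    rcases lt_or_ge x x.rev with hx | hx
    · rw [hg a x hx ha, zero_mul]
    · rw [hh x s hs hx, mul_zero]
  inv_mem' {g} hg := finite_subgroup_inv (s := {g : antiSU n hσ |
      ∀ a s : Fin n, s < s.rev → a.rev ≤ a → mat g a s = 0}) (fun a s hs ha => by
        rw [mat_one, Matrix.one_apply_ne]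
        rintro rfl
        exact hs.not_ge ha)
      (fun a ha b hb i s hs hi => by
        rw [mat_mul, Matrix.mul_apply]
        refine Finset.sum_eq_zero fun x _ => ?_
        rcases lt_or_ge x x.rev with hx | hx
        · rw [ha i x hx hi, zero_mul]
        · rw [hb x s hs hx, mul_zero]) hg

theorem sylU_le_siegelStab : sylU n hσ ≤ siegelStab n hσ := fun g hg a s hs ha => by
  have hlt : s < a := by
    by_contra hle
    push Not at hle
    exact (hs.trans_le (Fin.rev_le_rev.mpr hle)).not_ge (ha.trans hle)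
  rw [mem_sylU.mp hg a s hlt.le, if_neg hlt.ne']

/-- The unipotent radical of the Siegel parabolic. -/
noncomputable def siegelRad (n : ℕ) (hσ : IsConj σ) : Subgroup (antiSU n hσ) where
  carrier := {g | ∀ a s : Fin n, s < s.rev → mat g a s = (1 : Matrix (Fin n) (Fin n) F) a s}
  one_mem' _ _ _ := rfl
  mul_mem' {g h} hg hh a s hs := by
    rw [mat_mul, Matrix.mul_apply, Finset.sum_eq_single s
      (fun x _ hx => by rw [hh x s hs, Matrix.one_apply_ne hx, mul_zero]) (by simp), hh s s hs,
      Matrix.one_apply_eq, mul_one, hg a s hs]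
  inv_mem' {g} hg := finite_subgroup_inv (s := {g : antiSU n hσ |
      ∀ a s : Fin n, s < s.rev → mat g a s = (1 : Matrix (Fin n) (Fin n) F) a s}) (fun _ _ _ => rfl)
      (fun a ha b hb i s hs => by
        rw [mat_mul, Matrix.mul_apply, Finset.sum_eq_single s
          (fun x _ hx => by rw [hb x s hs, Matrix.one_apply_ne hx, mul_zero]) (by simp), hb s s hs,
          Matrix.one_apply_eq, mul_one, ha i s hs]) hg

theorem siegelRad_conj {h g : antiSU n hσ} (hh : h ∈ siegelStab n hσ) (hg : g ∈ siegelRad n hσ) :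
    h * g * h⁻¹ ∈ siegelRad n hσ := by
  intro a s hs
  have e : ∀ x, (mat g * mat h⁻¹) x s = mat h⁻¹ x s := fun x => by
    rw [Matrix.mul_apply, Finset.sum_eq_single x]
    · rcases lt_or_ge x x.rev with hx | hx
      · rw [hg x x hx, Matrix.one_apply_eq, one_mul]
      · rw [inv_mem hh x s hs hx, mul_zero]
    · intro y _ hy
      rcases lt_or_ge y y.rev with hy' | hy'
      · rw [hg x y hy', Matrix.one_apply_ne hy.symm, zero_mul]
      · rw [inv_mem hh y s hs hy', mul_zero]
    · simp
  rw [mul_assoc, mat_mul, Matrix.mul_apply]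
  simp only [mat_mul g, e]
  rw [← Matrix.mul_apply, ← mat_mul, mul_inv_cancel, mat_one]

theorem siegelRad_le : siegelRad n hσ ≤ sylU n hσ := by
  intro g hg
  have hlow : ∀ r s : Fin n, s < r → mat g r s = 0 := by
    intro r s hsr
    rcases lt_or_ge s s.rev with hs | hs
    · rw [hg r s hs, Matrix.one_apply_ne hsr.ne']
    · have hr : r.rev < r.rev.rev := by
        rw [Fin.rev_rev]
        exact (Fin.rev_lt_rev.mpr hsr).trans_le (hs.trans hsr.le)
      have h1 := inv_apply g⁻¹ r s
      rw [inv_inv, inv_mem hg s.rev r.rev hr, Matrix.one_apply_ne (fun e => hsr.ne (Fin.rev_inj.mp e)),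
        map_zero] at h1
      exact h1
  rw [mem_sylU]
  intro r s hsr
  rcases eq_or_lt_of_le hsr with rfl | h'
  · rw [if_pos rfl]
    rcases lt_trichotomy s s.rev with hs | hs | hs
    · rw [hg s s hs, Matrix.one_apply_eq]
    · -- the middle entry, from the determinant
      have hdet := det_mat g
      rw [Matrix.det_of_isUpperTriangular fun i j (hij : j < i) => hlow i j hij,
        Finset.prod_eq_single s (fun x _ hx => ?_) (by simp)] at hdet
      · exact hdet
      · rcases lt_or_ge x x.rev with hx' | hx'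
        · rw [hg x x hx', Matrix.one_apply_eq]
        · have hlt : x.rev < x := lt_of_le_of_ne hx' fun e => hx (Fin.ext (by
            have h1 := congrArg Fin.val e
            have h2 := congrArg Fin.val hs
            simp only [Fin.val_rev] at h1 h2
            omega))
          have h1 := inv_apply g⁻¹ x x
          rw [inv_inv, inv_mem hg x.rev x.rev (by rwa [Fin.rev_rev]), Matrix.one_apply_eq, map_one] at h1
          exact h1
    · have h1 := inv_apply g⁻¹ s s
      rw [inv_inv, inv_mem hg s.rev s.rev (by rwa [Fin.rev_rev]), Matrix.one_apply_eq, map_one] at h1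
      exact h1
  · rw [if_neg h'.ne', hlow r s h']

theorem xL_mem_siegelRad (i : Fin n) (h : i < i.rev) (c : F) (hc : c + σ c = 0) :
    xL (hσ := hσ) i h c hc ∈ siegelRad n hσ := by
  intro a s hs
  rw [xL, mat_emb, embMat_apply]
  simp only [Fin.sum_univ_two, long2, mat_mk]
  have hsne : s ≠ (pair i h) 1 := fun e => by
    rw [e] at hs
    change i.rev < i.rev.rev at hs
    rw [Fin.rev_rev] at hs
    exact h.not_gt hs
  simp [hsne]

/-- Only the Siegel radical centralizes itself. -/
theorem siegelRad_centralizer {u : antiSU n hσ} (hc : ∀ r ∈ siegelRad n hσ, u * r = r * u)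
    (hu : u ∈ sylU n hσ) : u ∈ siegelRad n hσ := by
  obtain ⟨ε, hε0, hε⟩ := hσ.exists_skew
  intro a i hi
  rcases le_or_gt i a with hle | hlt
  · rw [mem_sylU.mp hu a i hle, Matrix.one_apply]
  · have h1 := congrFun (congrFun (congrArg mat (hc _ (xL_mem_siegelRad i hi ε hε))) a) i.rev
    have e : ∀ x y, mat (xL (hσ := hσ) i hi ε hε) x y =
        (1 : Matrix (Fin n) (Fin n) F) x y + if x = i ∧ y = i.rev then ε else 0 := by
      intro x y
      rw [xL, mat_emb, embMat_apply]
      simp [Fin.sum_univ_two, long2, mat_mk, pair, RevEmb.ofTuple, hi.ne, hi.ne']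
    simp only [mat_mul, Matrix.mul_apply, e, mul_add, add_mul, Finset.sum_add_distrib, Matrix.one_apply,
      mul_ite, ite_mul, mul_one, one_mul, mul_zero, zero_mul, Finset.sum_ite_eq, Finset.sum_ite_eq',
      Finset.mem_univ, if_true, and_true] at h1
    simp [hlt.ne] at h1
    rw [Matrix.one_apply_ne hlt.ne]
    exact h1.resolve_right hε0

end Cfsg.Lib.Fusion.PSU
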