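import Cfsg.Agent.Fusion.PSLn
import Cfsg.Agent.Classical.Unitary.Field

/-!
The special unitary group of the form `∑ uᵢ σ(v (rev i))`, and embeddings of small ones.
-/

set_option autoImplicit false
set_option linter.unusedSectionVars false

namespace Cfsg.Lib.Fusion.PSU

open Matrix Cfsg.Lib.Classical

variable {F : Type*} [Field F] {σ : F →+* F} {n k l : ℕ}

/-- The adjoint of the anti-diagonal Hermitian form. -/
def adj (σ : F →+* F) (M : Matrix (Fin n) (Fin n) F) : Matrix (Fin n) (Fin n) F :=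
  Matrix.of fun a b => σ (M b.rev a.rev)

theorem adj_apply (M : Matrix (Fin n) (Fin n) F) (a b : Fin n) : adj σ M a b = σ (M b.rev a.rev) := rfl

theorem adj_mul (M N : Matrix (Fin n) (Fin n) F) : adj σ (M * N) = adj σ N * adj σ M := by
  ext a b
  simp only [adj_apply, Matrix.mul_apply, map_sum, map_mul]
  exact (Equiv.sum_comp Fin.revPerm _).symm.trans (Finset.sum_congr rfl fun x _ => by
    simp [mul_comm])

theorem adj_one : adj σ (1 : Matrix (Fin n) (Fin n) F) = 1 := by
  ext a b
  by_cases h : a = b <;> simp [adj_apply, Matrix.one_apply, h, eq_comm]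

theorem adj_adj (hσ : IsConj σ) (M : Matrix (Fin n) (Fin n) F) : adj σ (adj σ M) = M := by
  ext a b
  simp [adj_apply, hσ.invol]

/-- The special unitary group. -/
def antiSU (n : ℕ) (hσ : IsConj σ) : Subgroup (Matrix.SpecialLinearGroup (Fin n) F) where
  carrier := {g | adj σ (g : Matrix (Fin n) (Fin n) F) * (g : Matrix (Fin n) (Fin n) F) = 1}
  one_mem' := by simp [adj_one]
  mul_mem' {g h} (hg : _ = _) (hh : _ = _) := by
    show adj σ ((g * h : Matrix.SpecialLinearGroup (Fin n) F) : Matrix (Fin n) (Fin n) F) * _ = 1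
    rw [Matrix.SpecialLinearGroup.coe_mul, adj_mul, Matrix.mul_assoc, ← Matrix.mul_assoc (adj σ (g : Matrix (Fin n) (Fin n) F)),
      hg, Matrix.one_mul, hh]
  inv_mem' {g} (hg : _ = _) := by
    show adj σ ((g⁻¹ : Matrix.SpecialLinearGroup (Fin n) F) : Matrix (Fin n) (Fin n) F) * _ = 1
    have h1 : (g : Matrix (Fin n) (Fin n) F) * (g⁻¹ : Matrix.SpecialLinearGroup (Fin n) F) = 1 :=
      congrArg Subtype.val (mul_inv_cancel g)
    have h2 := left_inv_eq_right_inv hg h1
    rw [← h2, adj_adj hσ]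
    exact mul_eq_one_comm.mp hg

variable {hσ : IsConj σ}

theorem mem_antiSU {g : Matrix.SpecialLinearGroup (Fin n) F} :
    g ∈ antiSU n hσ ↔ adj σ (g : Matrix (Fin n) (Fin n) F) * (g : Matrix (Fin n) (Fin n) F) = 1 := Iff.rfl

/-- The matrix of an element. -/
def mat (g : antiSU n hσ) : Matrix (Fin n) (Fin n) F :=
  ((g : Matrix.SpecialLinearGroup (Fin n) F) : Matrix (Fin n) (Fin n) F)

theorem mat_injective : Function.Injective (mat : antiSU n hσ → _) := fun _ _ h => Subtype.ext (Subtype.ext h)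

theorem mat_mul (g h : antiSU n hσ) : mat (g * h) = mat g * mat h := rfl

theorem mat_one : mat (1 : antiSU n hσ) = 1 := rfl

theorem mat_inv (g : antiSU n hσ) : mat g⁻¹ = adj σ (mat g) := by
  have h1 : mat g * mat g⁻¹ = 1 := by rw [← mat_mul, mul_inv_cancel, mat_one]
  exact (left_inv_eq_right_inv g.2 h1).symm

theorem adj_mul_self (g : antiSU n hσ) : adj σ (mat g) * mat g = 1 := g.2

/-- Inverse entries. -/
theorem inv_apply (g : antiSU n hσ) (a b : Fin n) : mat g⁻¹ a b = σ (mat g b.rev a.rev) := by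
  rw [mat_inv]; rfl

theorem det_mat (g : antiSU n hσ) : (mat g).det = 1 := (g : Matrix.SpecialLinearGroup (Fin n) F).2

/-- Constructor from a matrix. -/
def mk (M : Matrix (Fin n) (Fin n) F) (h : adj σ M * M = 1) (hd : M.det = 1) : antiSU n hσ :=
  ⟨⟨M, hd⟩, h⟩

theorem mat_mk (M : Matrix (Fin n) (Fin n) F) (h : adj σ M * M = 1) (hd : M.det = 1) :
    mat (mk (hσ := hσ) M h hd) = M := rfl

/-- A map of index sets commuting with reversal. -/
structure RevEmb (k n : ℕ) where
  toFun : Fin k → Fin n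
  inj : Function.Injective toFun
  rev : ∀ a, toFun a.rev = (toFun a).rev

instance : CoeFun (RevEmb k n) (fun _ => Fin k → Fin n) := ⟨RevEmb.toFun⟩

/-- Composition of embeddings. -/
def RevEmb.comp (ψ : RevEmb k n) (φ : RevEmb l k) : RevEmb l n where
  toFun := ψ.toFun ∘ φ.toFun
  inj := ψ.inj.comp φ.inj
  rev a := by simp [φ.rev, ψ.rev]

/-- The inclusion matrix. -/
def incl (F : Type*) [Field F] (ψ : Fin k → Fin n) : Matrix (Fin n) (Fin k) F :=
  Matrix.of fun r a => if r = ψ a then 1 else 0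

theorem incl_transpose_mul {ψ : Fin k → Fin n} (h : Function.Injective ψ) :
    (incl F ψ)ᵀ * incl F ψ = 1 := by
  ext a b
  simp [incl, Matrix.mul_apply, Matrix.one_apply, h.eq_iff, eq_comm]

theorem mul_incl_apply (M : Matrix (Fin k) (Fin k) F) (ψ : Fin k → Fin n) (a : Fin n) (b : Fin k) :
    (incl F ψ * M) a b = ∑ x, if a = ψ x then M x b else 0 := by
  simp [incl, Matrix.mul_apply, ite_mul]

/-- Extending a matrix by the identity. -/
def embMat (ψ : Fin k → Fin n) (M : Matrix (Fin k) (Fin k) F) : Matrix (Fin n) (Fin n) F :=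
  1 + incl F ψ * (M - 1) * (incl F ψ)ᵀ

theorem embMat_mul {ψ : Fin k → Fin n} (h : Function.Injective ψ) (M N : Matrix (Fin k) (Fin k) F) :
    embMat ψ (M * N) = embMat ψ M * embMat ψ N := by
  have e : M * N - 1 = (M - 1) + (N - 1) + (M - 1) * (N - 1) := by
    rw [sub_mul, mul_sub, mul_sub, one_mul, mul_one, one_mul]; abel
  have e2 : incl F ψ * (M - 1) * (incl F ψ)ᵀ * (incl F ψ * (N - 1) * (incl F ψ)ᵀ) =
      incl F ψ * ((M - 1) * (N - 1)) * (incl F ψ)ᵀ := by
    rw [Matrix.mul_assoc (incl F ψ * (M - 1)), ← Matrix.mul_assoc (incl F ψ)ᵀ,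
      ← Matrix.mul_assoc (incl F ψ)ᵀ, incl_transpose_mul h, Matrix.one_mul]
    simp only [Matrix.mul_assoc]
  rw [embMat, embMat, embMat, e]
  simp only [Matrix.mul_add, Matrix.add_mul, mul_one, one_mul, e2]
  abel

theorem det_embMat {ψ : Fin k → Fin n} (h : Function.Injective ψ) (M : Matrix (Fin k) (Fin k) F) :
    (embMat ψ M).det = M.det := by
  rw [embMat, Matrix.mul_assoc, Matrix.det_one_add_mul_comm, Matrix.mul_assoc, incl_transpose_mul h,
    Matrix.mul_one, add_sub_cancel]

theorem embMat_one (ψ : Fin k → Fin n) : embMat ψ (1 : Matrix (Fin k) (Fin k) F) = 1 := by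
  simp [embMat]

theorem embMat_apply (ψ : Fin k → Fin n) (M : Matrix (Fin k) (Fin k) F) (r s : Fin n) :
    embMat ψ M r s = (1 : Matrix (Fin n) (Fin n) F) r s +
      ∑ a, ∑ b, if r = ψ a ∧ s = ψ b then M a b - (1 : Matrix (Fin k) (Fin k) F) a b else 0 := by
  rw [embMat, Matrix.add_apply, Matrix.mul_apply]
  congr 1
  rw [Finset.sum_comm]
  refine Finset.sum_congr rfl fun b _ => ?_
  rw [mul_incl_apply, Finset.sum_mul]
  refine Finset.sum_congr rfl fun a _ => ?_
  by_cases h1 : r = ψ a <;> by_cases h2 : s = ψ b <;> simp [incl, h1, h2]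

theorem embMat_apply_apply {ψ : Fin k → Fin n} (h : Function.Injective ψ) (M : Matrix (Fin k) (Fin k) F)
    (a b : Fin k) : embMat ψ M (ψ a) (ψ b) = M a b := by
  rw [embMat_apply, Finset.sum_eq_single a, Finset.sum_eq_single b]
  · simp [Matrix.one_apply, h.eq_iff]
  · intro x _ hx; simp [h.eq_iff, Ne.symm hx]
  · simp
  · intro x _ hx; simp [h.eq_iff, Ne.symm hx]
  · simp

theorem embMat_apply_left {ψ : Fin k → Fin n} (M : Matrix (Fin k) (Fin k) F) {r : Fin n}
    (hr : ∀ a, r ≠ ψ a) (s : Fin n) : embMat ψ M r s = (1 : Matrix (Fin n) (Fin n) F) r s := by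
  simp [embMat_apply, hr]

theorem embMat_apply_right {ψ : Fin k → Fin n} (M : Matrix (Fin k) (Fin k) F) (r : Fin n) {s : Fin n}
    (hs : ∀ a, s ≠ ψ a) : embMat ψ M r s = (1 : Matrix (Fin n) (Fin n) F) r s := by
  simp [embMat_apply, hs]

theorem adj_embMat (ψ : RevEmb k n) (M : Matrix (Fin k) (Fin k) F) :
    adj σ (embMat ψ M) = embMat ψ (adj σ M) := by
  ext r s
  simp only [adj_apply, embMat_apply, map_add, map_sum]
  congr 1
  · exact congrFun (congrFun (adj_one (σ := σ)) r) s
  refine (Equiv.sum_comp Fin.revPerm _).symm.trans ?_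
  rw [Finset.sum_congr rfl (fun a _ => (Equiv.sum_comp Fin.revPerm _).symm), Finset.sum_comm]
  refine Finset.sum_congr rfl fun a _ => Finset.sum_congr rfl fun b _ => ?_
  simp only [Fin.revPerm_apply, ψ.rev, Fin.rev_inj]
  by_cases h : r = ψ a ∧ s = ψ b
  · rw [if_pos h, if_pos ⟨h.2, h.1⟩, map_sub]
    by_cases hab : a = b
    · subst hab; simp
    · simp [hab, Ne.symm hab]
  · rw [if_neg h, if_neg (fun e => h ⟨e.2, e.1⟩), map_zero]

/-- The embedding of a small special unitary group. -/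
def emb (ψ : RevEmb k n) : antiSU k hσ →* antiSU n hσ where
  toFun g := mk (embMat ψ (mat g))
    (by rw [adj_embMat, ← embMat_mul ψ.inj, adj_mul_self g]; exact embMat_one _)
    (by rw [det_embMat ψ.inj, det_mat])
  map_one' := mat_injective (by rw [mat_mk, mat_one, embMat_one]; rfl)
  map_mul' g h := mat_injective (by rw [mat_mk, mat_mul, embMat_mul ψ.inj, mat_mul, mat_mk, mat_mk])

theorem mat_emb (ψ : RevEmb k n) (g : antiSU k hσ) : mat (emb ψ g) = embMat ψ (mat g) := rfl

theorem embMat_comp (ψ : RevEmb k n) (φ : Fin l → Fin k) (M : Matrix (Fin l) (Fin l) F) :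
    embMat ψ (embMat φ M) = embMat (ψ ∘ φ) M := by
  have e : incl F (ψ ∘ φ) = incl F ψ * incl F φ := by
    ext r a
    simp [incl, Matrix.mul_apply]
  rw [embMat, embMat, embMat, add_sub_cancel_left, e, Matrix.transpose_mul]
  simp only [Matrix.mul_assoc]

theorem emb_comp (ψ : RevEmb k n) (φ : RevEmb l k) (g : antiSU l hσ) :
    emb ψ (emb φ g) = emb (ψ.comp φ) g :=
  mat_injective (by rw [mat_emb, mat_emb, mat_emb, embMat_comp]; rfl)

/-- Reversal of rows and columns. -/
def flip : antiSU n hσ →* antiSU n hσ where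
  toFun g := mk ((mat g).submatrix Fin.revPerm Fin.revPerm)
    (by
      have h : adj σ ((mat g).submatrix Fin.revPerm Fin.revPerm) =
          (adj σ (mat g)).submatrix Fin.revPerm Fin.revPerm := by ext a b; rfl
      rw [h, Matrix.submatrix_mul_equiv, adj_mul_self g, Matrix.submatrix_one_equiv])
    (by rw [Matrix.det_submatrix_equiv_self, det_mat])
  map_one' := mat_injective (by rw [mat_mk, mat_one, Matrix.submatrix_one_equiv])
  map_mul' g h := mat_injective (by rw [mat_mk, mat_mul, mat_mul, mat_mk, mat_mk, Matrix.submatrix_mul_equiv])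

theorem mat_flip (g : antiSU n hσ) : mat (flip g) = (mat g).submatrix Fin.revPerm Fin.revPerm := rfl

end Cfsg.Lib.Fusion.PSU
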