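import Cfsg.Agent.Fusion.PSU.Radical

/-!
Subgroups of the unipotent group closed under conjugation inside it and containing a central element.
-/

set_option autoImplicit false
set_option linter.unusedSectionVars false
set_option linter.unusedSimpArgs false

namespace Cfsg.Lib.Fusion.PSU

open Matrix Cfsg.Lib.Classical Cfsg.Lib.Known.AutPSLn

variable {F : Type*} [Field F] [Fintype F] {σ : F →+* F} {hσ : IsConj σ} {n k : ℕ}

theorem xL_congr {i : Fin n} {h h' : i < i.rev} {c c' : F} (e : c = c') {hc : c + σ c = 0}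
    {hc' : c' + σ c' = 0} : xL (hσ := hσ) i h c hc = xL i h' c' hc' := by subst e; rfl

theorem shortB_congr {a a' : F} (e : a = a') : shortB (hσ := hσ) a = shortB a' := by subst e; rfl

/-- A closed subgroup containing a central element contains the unipotent group. -/
theorem sylU_le_of_closed (hn : 4 ≤ n) (H : Subgroup (antiSU n hσ))
    (hH : ∀ (h g : antiSU n hσ), g ∈ H → g ∈ sylU n hσ → h * g * h⁻¹ ∈ sylU n hσ → h * g * h⁻¹ ∈ H)
    {u : antiSU n hσ} (huH : u ∈ H) (hu : u ∈ sylU n hσ) (hu1 : u ≠ 1)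
    (huc : ∀ r ∈ sylU n hσ, u * r = r * u) : sylU n hσ ≤ H := by
  have hconj : ∀ {k : ℕ} (ψ : RevEmb k n) (h g r : antiSU k hσ), h * g * h⁻¹ = r → emb ψ g ∈ H →
      emb ψ g ∈ sylU n hσ → emb ψ r ∈ sylU n hσ → emb ψ r ∈ H := by
    intro k ψ h g r e h1 h2 h3
    have e' : emb ψ h * emb ψ g * (emb ψ h)⁻¹ = emb ψ r := by rw [← e, map_mul, map_mul, map_inv]
    exact e' ▸ hH _ _ h1 h2 (e'.symm ▸ h3)
  obtain ⟨e, he⟩ : ∃ e : Fin n, e.1 = 0 := ⟨⟨0, by omega⟩, rfl⟩
  obtain ⟨o, ho⟩ : ∃ o : Fin n, o.1 = 1 := ⟨⟨1, by omega⟩, rfl⟩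
  have heo : e < o := Fin.lt_def.2 (by omega)
  have hoo : o < o.rev := by simp only [Fin.lt_def, Fin.val_rev]; omega
  have hee : e < e.rev := by simp only [Fin.lt_def, Fin.val_rev]; omega
  have hlt : ∀ i : Fin n, i ≠ e → e < i := fun i hi =>
    Fin.lt_def.2 (by rw [he]; exact Nat.pos_of_ne_zero fun h => hi (Fin.ext (by rw [h, he])))
  obtain ⟨c₀, hc₀, rfl⟩ := exists_eq_xL he hee hu huc
  have hc₀ne : c₀ ≠ 0 := by
    rintro rfl
    refine hu1 ?_
    rw [xL, show long2 (hσ := hσ) (0 : F) hc₀ = 1 from mat_injective (by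
      ext i j; fin_cases i <;> fin_cases j <;> simp [long2, mat_mk, mat_one]), map_one]
  -- the highest root group
  have hLe : ∀ (c : F) (hc : c + σ c = 0), xL e hee c hc ∈ H := by
    intro c hc
    by_cases h0 : c = 0
    · subst h0
      rw [xL, show long2 (hσ := hσ) (0 : F) hc = 1 from mat_injective (by
        ext i j; fin_cases i <;> fin_cases j <;> simp [long2, mat_mk, mat_one]), map_one]
      exact one_mem H
    have hfix : σ (c / c₀) = c / c₀ := by rw [map_div₀, sig_eq_neg hc, sig_eq_neg hc₀, neg_div_neg_eq]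
    obtain ⟨t, ht⟩ := hσ.norm_surjective hfix
    have ht0 : t ≠ 0 := fun h => by
      rw [h, zero_mul, eq_comm, div_eq_zero_iff] at ht
      tauto
    have := hconj (quad e o heo hoo) _ _ _ (diag_conj_long (hσ := hσ) t c₀ ht0 hc₀)
    rw [emb_comp, emb_comp, quad_outer] at this
    have h2 := this huH hu (xL_mem _ _ _ _)
    convert h2 using 1
    exact xL_congr (by rw [ht, div_mul_cancel₀ c hc₀ne])
  -- the long roots
  have hL : ∀ (i : Fin n) (h : i < i.rev) (c : F) (hc : c + σ c = 0), xL i h c hc ∈ H := by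
    intro i h c hc
    rcases eq_or_ne i e with rfl | hi
    · exact hLe c hc
    have := hconj (quad e i (hlt i hi) h) _ _ _ (rot_conj_long (hσ := hσ) c hc)
    rw [emb_comp, emb_comp, quad_outer, quad_inner] at this
    exact this (hLe c hc) (xL_mem _ _ _ _) (xL_mem _ _ _ _)
  obtain ⟨ε, hε0, hε⟩ := hσ.exists_skew
  -- the short roots in the radical
  have hB : ∀ (i j : Fin n) (h : i < j) (h' : j < j.rev) (a : F), xB i j h h' a ∈ H := by
    intro i j h h' a
    set t := σ (a / ε) with ht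
    have := hconj (quad i j h h') _ _ _ (lev_conj_long (hσ := hσ) t ε hε)
    rw [map_mul, map_mul, emb_comp, emb_comp, quad_outer, quad_inner] at this
    have h2 := this (hL _ _ _ _) (xL_mem _ _ _ _)
      (mul_mem (mul_mem (xL_mem _ _ _ _) (xL_mem _ _ _ _)) (xB_mem i j h h' _))
    have h3 := mul_mem (inv_mem (mul_mem (hL i (lt_rev_of_lt h h') ε hε)
      (hL j h' (t * σ t * ε) (skew_norm hε hσ t)))) h2
    simp only [xL] at h3
    rw [inv_mul_cancel_left] at h3
    rwa [xB, show a = ε * σ t by rw [ht, hσ.invol, mul_div_cancel₀ _ hε0]]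
  -- the short roots of the Levi subgroup
  have hA : ∀ (i j : Fin n) (h : i < j) (h' : j < j.rev) (a : F), xA i j h h' a ∈ H := by
    intro i j h h' a
    exact hconj (quad i j h h') _ _ _ (weyl_conj_short (hσ := hσ) a ε hε0 hε) (hB i j h h' _)
      (xB_mem i j h h' _) (xA_mem i j h h' a)
  -- the roots through the middle
  have hM : ∀ (i μ : Fin n) (hμ : μ.rev = μ) (h : i < μ) (b c : F) (hbc : c + σ c + b * σ b = 0),
      xM i μ hμ h b c hbc ∈ H := by
    intro i μ hμ h b c hbc
    have hoμ : o < μ := by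
      have h1 := congrArg Fin.val hμ
      simp only [Fin.lt_def, Fin.val_rev] at h1 ⊢
      omega
    have hfirst : xM e μ hμ (heo.trans hoμ) b c hbc ∈ H := by
      set ψ := quint e o μ hμ heo hoμ
      have e1 := congrArg (emb ψ) (short_mid_comm (hσ := hσ) b c hbc)
      rw [map_mul, map_mul, map_mul, map_mul, map_inv, map_inv, emb_comp, emb_comp, emb_comp, emb_comp,
        quint_outer, quint_inner, quint_four] at e1
      set M := emb (triple o μ hμ hoμ) (mid3 (hσ := hσ) b c hbc)
      set y := emb (quad e o heo (lt_rev_of_lt_mid hμ hoμ)) (shortA (hσ := hσ) 1)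
      have hy : y ∈ H := hA e o heo _ 1
      have hyU : y ∈ sylU n hσ := xA_mem e o heo _ 1
      have hMU : M ∈ sylU n hσ := xM_mem o μ hμ hoμ b c hbc
      have h1 := hH M⁻¹ y hy hyU (mul_mem (mul_mem (inv_mem hMU) hyU) (inv_mem (inv_mem hMU)))
      rw [inv_inv] at h1
      have h2 := mul_mem h1 (inv_mem hy)
      rw [e1] at h2
      have h3 := mul_mem h2 (inv_mem (hB e o heo (lt_rev_of_lt_mid hμ hoμ) c))
      simp only [xB] at h3
      rw [mul_inv_cancel_right] at h3
      exact h3
    rcases eq_or_ne i e with rfl | hi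
    · exact hfirst
    have := hconj (quint e i μ hμ (hlt i hi) h) _ _ _ (rot_conj_mid (hσ := hσ) b c hbc)
    rw [emb_comp, emb_comp, quint_outer, quint_inner] at this
    exact this hfirst (xM_mem _ _ _ _ _ _ _) (xM_mem _ _ _ _ _ _ _)
  exact sylU_le H hL hM hA hB

end Cfsg.Lib.Fusion.PSU
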