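import Cfsg.Agent.Fusion.PSU.Closed

/-!
The `p`-fusion system of `PSU n q`, `q` a power of `p`, `n ≥ 4`, is simple.
-/

set_option autoImplicit false
set_option linter.unusedSectionVars false
set_option linter.unusedSimpArgs false

namespace Cfsg.Lib.Fusion.PSU

open Matrix Cfsg Cfsg.Lib.Classical Cfsg.Lib.Known.AutPSLn
open Matrix.SpecialLinearGroup (transvection diag2n)

variable {F : Type*} [Field F] [Fintype F] {σ : F →+* F} {hσ : IsConj σ} {n k : ℕ}
variable (p : ℕ) [Fact p.Prime] [CharP F p]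

theorem flip_pow (g : antiSU n hσ) (hg : g ∈ sylU n hσ) : ∃ e : ℕ, flip g ^ p ^ e = 1 := by
  obtain ⟨e, he⟩ := isPGroup_sylU (hσ := hσ) (n := n) p ⟨g, hg⟩
  exact ⟨e, by rw [← map_pow, show g ^ p ^ e = 1 from congrArg Subtype.val he, map_one]⟩

theorem pow_of_mem (g : antiSU n hσ) (hg : g ∈ sylU n hσ) : ∃ e : ℕ, g ^ p ^ e = 1 := by
  obtain ⟨e, he⟩ := isPGroup_sylU (hσ := hσ) (n := n) p ⟨g, hg⟩
  exact ⟨e, congrArg Subtype.val he⟩

theorem weyl2_mem (H : Subgroup (antiSU 2 hσ))
    (hH : ∀ g : antiSU 2 hσ, (∃ e : ℕ, g ^ p ^ e = 1) → g ∈ H) (c : F) (hc : c ≠ 0) (h : c + σ c = 0) :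
    weyl2 c hc h ∈ H :=
  mul_mem (mul_mem (inv_mem (hH _ (flip_pow p _ (long2_mem _ _)))) (hH _ (pow_of_mem p _ (long2_mem _ _))))
    (inv_mem (hH _ (flip_pow p _ (long2_mem _ _))))

theorem weyl3_mem (H : Subgroup (antiSU 3 hσ))
    (hH : ∀ g : antiSU 3 hσ, (∃ e : ℕ, g ^ p ^ e = 1) → g ∈ H) (b c : F) (hc : c ≠ 0)
    (h : c + σ c + b * σ b = 0) : weyl3 b c hc h ∈ H :=
  mul_mem (mul_mem (inv_mem (hH _ (flip_pow p _ (mid3_mem _ _ _)))) (hH _ (pow_of_mem p _ (mid3_mem _ _ _))))
    (inv_mem (hH _ (flip_pow p _ (mid3_mem _ _ _))))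

/-- An embedded diagonal element is diagonal. -/
theorem emb_diag (ψ : RevEmb k n) {g : antiSU k hσ} {v : Fin k → F} (hg : mat g = diagonal v) :
    ∃ w : Fin n → F, mat (emb ψ g) = diagonal w ∧ (∀ a, w (ψ a) = v a) ∧
      ∀ r, (∀ a, r ≠ ψ a) → w r = 1 := by
  refine ⟨fun r => mat (emb ψ g) r r, ?_, fun a => ?_, fun r hr => ?_⟩
  · ext r s
    rcases eq_or_ne r s with rfl | h
    · rw [Matrix.diagonal_apply_eq]
    · rw [Matrix.diagonal_apply_ne _ h, mat_emb]
      by_cases hr : ∃ a, r = ψ a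
      · by_cases hs : ∃ b, s = ψ b
        · obtain ⟨a, rfl⟩ := hr
          obtain ⟨b, rfl⟩ := hs
          rw [embMat_apply_apply ψ.inj, hg, Matrix.diagonal_apply_ne _ (fun e => h (by rw [e]))]
        · rw [embMat_apply_right _ _ (not_exists.mp hs), Matrix.one_apply_ne h]
      · rw [embMat_apply_left _ (not_exists.mp hr), Matrix.one_apply_ne h]
  · show mat (emb ψ g) (ψ a) (ψ a) = v a
    rw [mat_emb, embMat_apply_apply ψ.inj, hg, Matrix.diagonal_apply_eq]
  · show mat (emb ψ g) r r = 1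
    rw [mat_emb, embMat_apply_left _ hr, Matrix.one_apply_eq]

theorem lev4_stab (i j : Fin n) (h : i < j) (h' : j < j.rev) (M : Matrix.SpecialLinearGroup (Fin 2) F) :
    emb (quad i j h h') (lev4 (hσ := hσ) M) ∈ siegelStab n hσ := by
  intro a s hs ha
  have hne : a ≠ s := by rintro rfl; exact hs.not_ge ha
  rw [mat_emb]
  by_cases hx : ∃ x, a = (quad i j h h') x
  swap
  · rw [embMat_apply_left _ (not_exists.mp hx), Matrix.one_apply_ne hne]
  by_cases hy : ∃ y, s = (quad i j h h') y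
  swap
  · rw [embMat_apply_right _ _ (not_exists.mp hy), Matrix.one_apply_ne hne]
  obtain ⟨x, rfl⟩ := hx
  obtain ⟨y, rfl⟩ := hy
  rw [embMat_apply_apply (quad i j h h').inj]
  rw [← (quad i j h h').rev] at hs ha
  rw [show (quad i j h h').toFun y < (quad i j h h').toFun y.rev ↔ y < y.rev from
    (quad_mono i j h h').lt_iff_lt] at hs
  rw [show (quad i j h h').toFun x.rev ≤ (quad i j h h').toFun x ↔ x.rev ≤ x from
    (quad_mono i j h h').le_iff_le] at ha
  fin_cases x <;> fin_cases y <;> simp [lev4, levMat, mat_mk, Fin.rev] at hs ha ⊢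

variable {P : Type*} [Group P] [Finite P] {π : antiSU n hσ →* P}

/-- The data on the projection. -/
structure IsProj (p : ℕ) (π : antiSU n hσ →* P) : Prop where
  surj : Function.Surjective π
  central : ∀ z, π z = 1 → z ∈ Subgroup.center (antiSU n hσ)
  coprime : ∀ z, π z = 1 → ∀ e : ℕ, z ^ p ^ e = 1 → z = 1

variable {p}

theorem IsProj.eq_of_eq (hπ : IsProj p π) {u v : antiSU n hσ} (hu : u ∈ sylU n hσ) (hv : v ∈ sylU n hσ)
    (h : π u = π v) : u = v := by
  obtain ⟨e, he⟩ := pow_of_mem p _ (mul_mem (inv_mem hu) hv)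
  exact inv_mul_eq_one.mp (hπ.coprime _ (by rw [map_mul, map_inv, h, inv_mul_cancel]) e he)

theorem IsProj.mem_of_map_mem (hπ : IsProj p π) {x : antiSU n hσ} {e : ℕ} (he : x ^ p ^ e = 1)
    (h : π x ∈ (sylU n hσ).map π) : x ∈ sylU n hσ := by
  obtain ⟨v, hv, hvx⟩ := h
  have hker : π (v⁻¹ * x) = 1 := by rw [map_mul, map_inv, hvx, inv_mul_cancel]
  obtain ⟨l, hl⟩ := pow_of_mem p v hv
  have hcomm : Commute v (v⁻¹ * x) := Subgroup.mem_center_iff.mp (hπ.central _ hker) v
  have h1 : (v⁻¹ * x) ^ p ^ (e + l) = 1 := by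
    have h2 : x ^ p ^ (e + l) = 1 := by rw [pow_add, pow_mul, he, one_pow]
    rw [show x = v * (v⁻¹ * x) by group, hcomm.mul_pow, pow_add, mul_comm (p ^ e), pow_mul, hl, one_pow,
      one_mul] at h2
    rw [pow_add, mul_comm]
    exact h2
  rw [← inv_mul_eq_one.mp (hπ.coprime _ hker _ h1)]
  exact hv

theorem residual_of_subgroup (hπ : IsProj p π) (R : Subgroup (antiSU n hσ)) (hR : R ≤ sylU n hσ)
    (hn : ∀ u ∈ sylU n hσ, ∀ r ∈ R, u * r * u⁻¹ ∈ R)
    (hc : ∀ u ∈ sylU n hσ, (∀ r ∈ R, u * r = r * u) → u ∈ R)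
    {t : antiSU n hσ} {d : Fin n → F} (ht : mat t = diagonal d)
    (hgen : ∀ H : Subgroup (antiSU n hσ),
      (∀ g : antiSU n hσ, (∀ r ∈ R, g * r * g⁻¹ ∈ R) → (∃ e : ℕ, g ^ p ^ e = 1) → g ∈ H) → t ∈ H) :
    π t ∈ normalResidual p ((sylU n hσ).map π) := by
  refine ⟨mem_normalizer_of_maps_finite ?_, R.map π, Subgroup.map_mono hR, ?_, ?_, ?_⟩
  · rintro _ ⟨u, hu, rfl⟩
    exact ⟨_, torus_conj_sylU ht hu, by simp⟩
  · rintro _ ⟨u, hu, rfl⟩
    refine mem_normalizer_of_maps_finite ?_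
    rintro _ ⟨r, hr, rfl⟩
    exact ⟨_, hn u hu r hr, by simp⟩
  · rintro _ ⟨⟨u, hu, rfl⟩, huc⟩
    refine ⟨u, hc u hu fun r hr => ?_, rfl⟩
    refine hπ.eq_of_eq (mul_mem hu (hR hr)) (mul_mem (hR hr) hu) ?_
    rw [map_mul, map_mul]
    exact (Subgroup.mem_centralizer_iff.mp huc _ ⟨r, hr, rfl⟩).symm
  · refine Subgroup.mem_comap.mp (hgen (Subgroup.comap π (Subgroup.closure {x : P |
      x ∈ Subgroup.normalizer ((R.map π : Subgroup P) : Set P) ∧ ∃ e : ℕ, x ^ p ^ e = 1})) fun g hg hp =>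
      Subgroup.subset_closure ⟨mem_normalizer_of_maps_finite ?_, ?_⟩)
    · rintro _ ⟨r, hr, rfl⟩
      exact ⟨_, hg r hr, by simp⟩
    · obtain ⟨e, he⟩ := hp
      exact ⟨e, by rw [← map_pow, he, map_one]⟩

theorem coroot_mem (hπ : IsProj p π) (i j : Fin n) (h : i < j) (h' : j < j.rev) (a : F) (ha : a ≠ 0) :
    π (emb (quad i j h h') (lev4 (diag2n (show (0 : Fin 2) ≠ 1 by decide) a ha))) ∈
      normalResidual p ((sylU n hσ).map π) := by
  have hd : mat (lev4 (hσ := hσ) (diag2n (show (0 : Fin 2) ≠ 1 by decide) a ha)) =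
      diagonal ![a, a⁻¹, σ a, σ a⁻¹] := by
    ext r s
    fin_cases r <;> fin_cases s <;> simp [lev4, levMat, mat_mk, Matrix.SpecialLinearGroup.diag2n_coe]
  obtain ⟨w, hw, -, -⟩ := emb_diag (quad i j h h') hd
  refine residual_of_subgroup hπ (siegelRad n hσ) siegelRad_le
    (fun u hu r hr => siegelRad_conj (sylU_le_siegelStab hu) hr)
    (fun u hu hc => siegelRad_centralizer hc hu) hw fun H hH => ?_
  have hroot : ∀ (r s : Fin 2) (hrs : r ≠ s) (c : F), transvection hrs c ∈
      H.comap ((emb (quad i j h h')).comp (lev4 (hσ := hσ))) := fun r s hrs c =>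
    hH ((emb (quad i j h h')).comp (lev4 (hσ := hσ)) (transvection hrs c))
      (fun x hx => siegelRad_conj (lev4_stab i j h h' _) hx) ⟨1, by
      rw [pow_one, ← map_pow, PSLn.transvection_pow_card p, map_one]⟩
  show diag2n _ a ha ∈ H.comap ((emb (quad i j h h')).comp (lev4 (hσ := hσ)))
  rw [Cfsg.Lib.Classical.diag2n_eq_prod]
  exact mul_mem (mul_mem (mul_mem (mul_mem (mul_mem (hroot _ _ _ _) (hroot _ _ _ _)) (hroot _ _ _ _))
    (hroot _ _ _ _)) (hroot _ _ _ _)) (hroot _ _ _ _)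

theorem last_mem (hπ : IsProj p π) {e : Fin n} (he : e.1 = 0) (ψ : RevEmb k n) (hψ : ∀ a, e ≠ ψ a)
    {t : antiSU k hσ} {v : Fin k → F} (ht : mat t = diagonal v)
    (hgen : ∀ H : Subgroup (antiSU k hσ), (∀ g : antiSU k hσ, (∃ e : ℕ, g ^ p ^ e = 1) → g ∈ H) → t ∈ H) :
    π (emb ψ t) ∈ normalResidual p ((sylU n hσ).map π) := by
  obtain ⟨w, hw, -, -⟩ := emb_diag ψ ht
  refine residual_of_subgroup hπ (pointRad hσ e) (pointRad_le he)
    (fun u hu r hr => pointRad_conj (fun a ha => ?_) hr)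
    (fun u hu hc => pointRad_centralizer he hu hc) hw fun H hH => ?_
  · rw [mem_sylU.mp hu a e (Fin.le_def.2 (by omega)), if_neg ha]
  refine Subgroup.mem_comap.mp (hgen (H.comap (emb ψ)) fun g hg => hH _ (fun r hr => pointRad_conj ?_ hr) ?_)
  · intro a ha
    rw [mat_emb, embMat_apply_right _ _ hψ, Matrix.one_apply_ne ha]
  · obtain ⟨l, hl⟩ := hg
    exact ⟨l, by rw [← map_pow, hl, map_one]⟩

/-- The torus is generated by residual elements. -/
theorem torus_mem (hπ : IsProj p π) (hn : 4 ≤ n) (K : Subgroup P)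
    (hK : normalResidual p ((sylU n hσ).map π) ⊆ (K : Set P))
    {t : antiSU n hσ} {d : Fin n → F} (ht : mat t = diagonal d) : π t ∈ K := by
  classical
  obtain ⟨e, he⟩ : ∃ e : Fin n, e.1 = 0 := ⟨⟨0, by omega⟩, rfl⟩
  suffices key : ∀ (l : ℕ) (t : antiSU n hσ) (d : Fin n → F), mat t = diagonal d →
      (∀ r : Fin n, r < r.rev → r.1 + l < n / 2 → d r = 1) → π t ∈ K from
    key (n / 2) t d ht fun r _ h => absurd h (by omega)
  intro l
  induction l with
  | zero =>
    intro t d ht h1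
    suffices t = 1 by rw [this, map_one]; exact one_mem K
    refine mat_injective ?_
    rw [ht, mat_one, ← diagonal_one, diagonal_eq_diagonal_iff]
    have hside : ∀ r : Fin n, r.rev ≠ r → d r = 1 := by
      intro r hr
      rcases lt_or_gt_of_ne hr with h | h
      · have h2 := h1 r.rev (by rwa [Fin.rev_rev]) (by simp only [Fin.lt_def, Fin.val_rev] at h ⊢; omega)
        have h3 := diag_rel ht r
        rwa [h2, map_one, mul_one] at h3
      · exact h1 r h (by simp only [Fin.lt_def, Fin.val_rev] at h ⊢; omega)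
    intro r
    by_cases hr : r.rev = r
    · have hdet := det_mat t
      rw [ht, det_diagonal, Finset.prod_eq_single r (fun x _ hx => hside x fun e => hx (Fin.ext (by
        have h2 := congrArg Fin.val e
        have h3 := congrArg Fin.val hr
        simp only [Fin.val_rev] at h2 h3
        omega))) (by simp)] at hdet
      exact hdet
    · exact hside r hr
  | succ l ih =>
    intro t d ht h1
    by_cases hl : n / 2 ≤ l
    · exact ih t d ht fun r _ h => absurd h (by omega)
    obtain ⟨i, hi⟩ : ∃ i : Fin n, i.1 + l + 1 = n / 2 :=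
      ⟨⟨n / 2 - 1 - l, by omega⟩, by show n / 2 - 1 - l + l + 1 = n / 2; omega⟩
    have hii : i < i.rev := by simp only [Fin.lt_def, Fin.val_rev]; omega
    have hdi : d i ≠ 0 := fun h => by
      have := diag_rel ht i
      rw [h, zero_mul] at this
      exact zero_ne_one this
    -- an element clearing the entry
    suffices hx : ∃ (x : antiSU n hσ) (w : Fin n → F), π x ∈ K ∧ mat x = diagonal w ∧ w i = d i ∧
        ∀ r : Fin n, r.1 < i.1 → w r = 1 by
      obtain ⟨x, w, hxK, hw, hwi, hwr⟩ := hx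
      have hxi : mat (x⁻¹ * t) = diagonal fun r => σ (w r.rev) * d r := by
        rw [mat_mul, mat_inv, hw, ht, show adj σ (diagonal w) = diagonal fun a => σ (w a.rev) by
          ext a b
          by_cases hab : a = b
          · simp [adj_apply, hab]
          · simp [adj_apply, hab, Ne.symm hab], diagonal_mul_diagonal]
      have hrel : ∀ r, w r * σ (w r.rev) = 1 := diag_rel hw
      have := ih (x⁻¹ * t) _ hxi fun r hr hrl => by
        rcases lt_or_eq_of_le (show r.1 ≤ i.1 by omega) with h | h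
        · have h2 := hrel r
          rw [hwr r h, one_mul] at h2
          rw [h2, one_mul, h1 r hr (by omega)]
        · obtain rfl : r = i := Fin.ext h
          rw [← hwi, mul_comm]; exact hrel r
      simpa [map_mul, map_inv] using mul_mem hxK this
    rcases Nat.lt_or_ge (i.1 + 1) (n / 2) with hnext | hlast
    · obtain ⟨j, hj⟩ : ∃ j : Fin n, j.1 = i.1 + 1 := ⟨⟨i.1 + 1, by omega⟩, rfl⟩
      have hij : i < j := Fin.lt_def.2 (by omega)
      have hjj : j < j.rev := by simp only [Fin.lt_def, Fin.val_rev]; omega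
      have hd : mat (lev4 (hσ := hσ) (diag2n (show (0 : Fin 2) ≠ 1 by decide) (d i) hdi)) =
          diagonal ![d i, (d i)⁻¹, σ (d i), σ (d i)⁻¹] := by
        ext r s
        fin_cases r <;> fin_cases s <;> simp [lev4, levMat, mat_mk, Matrix.SpecialLinearGroup.diag2n_coe]
      obtain ⟨w, hw, hwψ, hwo⟩ := emb_diag (quad i j hij hjj) hd
      refine ⟨_, w, hK (coroot_mem hπ i j hij hjj (d i) hdi), hw, hwψ 0, fun r hr => hwo r fun a => ?_⟩
      fin_cases a <;>
        simp [quad, RevEmb.ofTuple, Fin.ext_iff, Fin.val_rev] <;> omega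
    · have hei : ∀ r : Fin n, r.1 ≠ 0 → e ≠ r := fun r hr h => hr (by rw [← h, he])
      obtain ⟨ε, hε0, hε⟩ := hσ.exists_skew
      by_cases hmid : ∃ μ : Fin n, μ.rev = μ
      · obtain ⟨μ, hμ⟩ := hmid
        have hμv : 2 * μ.1 + 1 = n := by
          have h2 := congrArg Fin.val hμ
          simp only [Fin.val_rev] at h2
          omega
        have hiμ : i < μ := Fin.lt_def.2 (by omega)
        obtain ⟨b, hb⟩ := hσ.norm_surjective (a := -(d i + σ (d i))) (by rw [map_neg, hσ.trace_mem])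
        obtain ⟨b₀, hb₀⟩ := hσ.norm_surjective (a := -(1 + σ 1)) (by rw [map_neg, hσ.trace_mem])
        have e1 : d i + σ (d i) + b * σ b = 0 := by rw [hb, add_neg_cancel]
        have e0 : (1 : F) + σ 1 + b₀ * σ b₀ = 0 := by rw [hb₀, add_neg_cancel]
        have hd : mat (weyl3 (hσ := hσ) b (d i) hdi e1 * (weyl3 b₀ 1 one_ne_zero e0)⁻¹) =
            diagonal ![d i, σ (d i) / d i, (σ (d i))⁻¹] := by
          rw [mat_torus3 (d i) b b₀ hdi e1 e0]
          ext r s
          fin_cases r <;> fin_cases s <;> simp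
        obtain ⟨w, hw, hwψ, hwo⟩ := emb_diag (triple i μ hμ hiμ) hd
        refine ⟨_, w, hK (last_mem hπ he (triple i μ hμ hiμ) ?_ hd fun H hH =>
          mul_mem (weyl3_mem p H hH _ _ _ _) (inv_mem (weyl3_mem p H hH _ _ _ _))), hw, hwψ 0,
          fun r hr => hwo r fun a => ?_⟩
        · intro a
          refine hei _ ?_
          fin_cases a <;> simp [triple, RevEmb.ofTuple, Fin.val_rev] <;> omega
        · fin_cases a <;> simp [triple, RevEmb.ofTuple, Fin.ext_iff, Fin.val_rev] <;> omega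
      · have heven : ∀ r : Fin n, r < r.rev ∨ r.rev < r := fun r =>
          lt_or_gt_of_ne (fun e => hmid ⟨r, e.symm⟩)
        have hfix : σ (d i) = d i := by
          have hdet := det_mat t
          rw [ht, det_diagonal, Finset.prod_eq_mul i i.rev hii.ne (fun r _ hr => ?_) (by simp) (by simp)] at hdet
          · have h2 := diag_rel ht i
            have h3 : σ (d i.rev) = d i.rev := mul_left_cancel₀ hdi (h2.trans hdet.symm)
            have h4 : σ (d i) * σ (d i.rev) = 1 := by rw [← map_mul, hdet, map_one]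
            rw [h3] at h4
            exact mul_right_cancel₀ (fun e => by rw [e, mul_zero] at hdet; exact zero_ne_one hdet)
              (h4.trans hdet.symm)
          · rcases heven r with h | h
            · exact h1 r h (by
                have : r.1 ≠ i.1 := fun e => hr.1 (Fin.ext e)
                simp only [Fin.lt_def, Fin.val_rev] at h
                omega)
            · have h2 := h1 r.rev (by rwa [Fin.rev_rev]) (by
                have : r.rev.1 ≠ i.1 := fun e => hr.2 (by rw [← Fin.ext e, Fin.rev_rev])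
                simp only [Fin.lt_def, Fin.val_rev] at h this ⊢
                omega)
              have h3 := diag_rel ht r
              rwa [h2, map_one, mul_one] at h3
        have hte : d i * ε + σ (d i * ε) = 0 := by rw [map_mul, hfix, ← mul_add, hε, mul_zero]
        have hd : mat (weyl2 (hσ := hσ) (d i * ε) (mul_ne_zero hdi hε0) hte * (weyl2 ε hε0 hε)⁻¹) =
            diagonal ![d i, (d i)⁻¹] := by
          rw [mat_torus2 (d i) ε hdi hε0 hε hte]
          ext r s
          fin_cases r <;> fin_cases s <;> simp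
        obtain ⟨w, hw, hwψ, hwo⟩ := emb_diag (pair i hii) hd
        refine ⟨_, w, hK (last_mem hπ he (pair i hii) ?_ hd fun H hH =>
          mul_mem (weyl2_mem p H hH _ _ _) (inv_mem (weyl2_mem p H hH _ _ _))), hw, hwψ 0,
          fun r hr => hwo r fun a => ?_⟩
        · intro a
          refine hei _ ?_
          fin_cases a <;> simp [pair, RevEmb.ofTuple, Fin.val_rev] <;> omega
        · fin_cases a <;> simp [pair, RevEmb.ofTuple, Fin.ext_iff, Fin.val_rev] <;> omega

theorem isSimple (hπ : IsProj p π) (hn : 4 ≤ n) (S : Sylow p P) :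
    (groupFusionSystem (S : Subgroup P)).IsSimple p := by
  obtain ⟨Q, hQ⟩ := exists_sylow (hσ := hσ) (n := n) p
  set S' := S
  obtain ⟨S, hS⟩ : ∃ S : Sylow p P, (S : Subgroup P) = (sylU n hσ).map π :=
    ⟨Q.mapSurjective hπ.surj, by rw [Sylow.coe_mapSurjective, hQ]⟩
  have hmem : ∀ u ∈ sylU n hσ, π u ∈ (S : Subgroup P) := fun u hu => hS.symm ▸ Subgroup.mem_map_of_mem _ hu
  refine isSimple_of_normalResidual S S' (fun h => ?_) (fun T hT => ?_) ?_
  · obtain ⟨ε, hε0, hε⟩ := hσ.exists_skew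
    obtain ⟨i, hi⟩ : ∃ i : Fin n, i < i.rev :=
      ⟨⟨0, by omega⟩, by simp only [Fin.lt_def, Fin.val_rev]; omega⟩
    have h1 := hmem _ (xL_mem (hσ := hσ) i hi ε hε)
    rw [h, Subgroup.mem_bot, ← map_one π] at h1
    have h2 := congrArg (fun g => mat g i i.rev) (hπ.eq_of_eq (xL_mem i hi ε hε) (one_mem _) h1)
    simp only [xL, mat_emb, mat_one, Matrix.one_apply_ne hi.ne] at h2
    have h3 := embMat_apply_apply (pair i hi).inj (mat (long2 (hσ := hσ) ε hε)) 0 1
    rw [show (pair i hi) 0 = i from rfl, show (pair i hi) 1 = i.rev from rfl, h2] at h3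
    simp [long2, mat_mk] at h3
    exact hε0 h3.symm
  · refine or_iff_not_imp_left.mpr fun hT1 => le_antisymm hT.1 ?_
    have : (T.subgroupOf (S : Subgroup P)).Normal :=
      (Subgroup.normal_subgroupOf_iff_le_normalizer hT.1).mpr (normalizes_of_stronglyClosed hT)
    obtain ⟨z, hzT, hzC, hz1⟩ := Cfsg.Lib.PGroups.exists_mem_center_of_normal_ne_bot S.2
      (N := T.subgroupOf (S : Subgroup P)) (by
        rw [Ne, Subgroup.subgroupOf_eq_bot, disjoint_iff, inf_eq_left.mpr hT.1]
        exact hT1)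
    obtain ⟨u, hu, huz⟩ : (z : P) ∈ (sylU n hσ).map π := hS ▸ z.2
    have hu1 : u ≠ 1 := fun e => (Fact.out : p.Prime).ne_one (by
      rw [← hz1, orderOf_eq_one_iff.mpr (Subtype.ext (by rw [← huz, e, map_one]; rfl))])
    have huc : ∀ r ∈ sylU n hσ, u * r = r * u := fun r hr => by
      refine hπ.eq_of_eq (mul_mem hu hr) (mul_mem hr hu) ?_
      rw [map_mul, map_mul, huz]
      exact (congrArg Subtype.val (Subgroup.mem_center_iff.mp hzC ⟨π r, hmem r hr⟩)).symm
    have hle := sylU_le_of_closed hn (T.comap π) (fun h g hg _ hhg => by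
      rw [Subgroup.mem_comap, map_mul, map_mul, map_inv]
      have hconj : π h * π g * (π h)⁻¹ ∈ (S : Subgroup P) := by
        rw [← map_inv, ← map_mul, ← map_mul]; exact hmem _ hhg
      refine stronglyClosed_apply hT (P := Subgroup.zpowers (π g)) (f := fun y => π h * y * (π h)⁻¹) ?_
        (Subgroup.mem_zpowers _) hg
      refine isMap_group_iff.mpr ⟨Subgroup.zpowers_le.mpr (hT.1 hg), ?_, π h, fun _ _ => rfl⟩
      rintro y ⟨e, rfl⟩
      show π h * π g ^ e * (π h)⁻¹ ∈ (S : Subgroup P)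
      rw [← _root_.conj_zpow]
      exact zpow_mem hconj e) (Subgroup.mem_comap.mpr (huz ▸ Subgroup.mem_subgroupOf.mp hzT)) hu hu1 huc
    rw [hS]
    exact Subgroup.map_le_iff_le_comap.mpr hle
  · intro g hg
    set K := Subgroup.closure (normalResidual p (S : Subgroup P) ∪ ((S : Subgroup P) : Set P) ∪
      Subgroup.centralizer ((S : Subgroup P) : Set P))
    obtain ⟨M, rfl⟩ := hπ.surj g
    have hconj : ∀ u ∈ sylU n hσ, M⁻¹ * u * M ∈ sylU n hσ := fun u hu => by
      obtain ⟨e, he⟩ := pow_of_mem p u hu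
      refine hπ.mem_of_map_mem (e := e) ?_ ?_
      · rw [show M⁻¹ * u * M = M⁻¹ * u * (M⁻¹)⁻¹ by group, _root_.conj_pow, he]
        group
      · have h1 := conj_mem_of_mem_normalizer (Subgroup.inv_mem _ hg) (hmem u hu)
        rw [inv_inv] at h1
        rw [← hS, map_mul, map_mul, map_inv]
        exact h1
    obtain ⟨t, d, ht, u, hu, rfl⟩ := exists_torus_mul hconj
    rw [map_mul]
    refine mul_mem ?_ (Subgroup.subset_closure (Or.inl (Or.inr (hmem u hu))))
    exact torus_mem hπ hn K (fun x hx => Subgroup.subset_closure (Or.inl (Or.inl (hS.symm ▸ hx)))) ht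

end Cfsg.Lib.Fusion.PSU
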