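import Cfsg.Agent.Fusion.PSU.Sylow

/-!
The radical of the point stabilizer, and the centre of the standard Sylow subgroup.
-/

set_option autoImplicit false
set_option linter.unusedSectionVars false
set_option linter.unusedSimpArgs false
set_option linter.unnecessarySeqFocus false

namespace Cfsg.Lib.Fusion.PSU

open Matrix Cfsg.Lib.Classical Cfsg.Lib.Known.AutPSLn

variable {F : Type*} [Field F] [Fintype F] {σ : F →+* F} {hσ : IsConj σ} {n : ℕ}

theorem pointRad_mul {e : Fin n} {g h : antiSU n hσ}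
    (hg1 : ∀ a, mat g a e = (1 : Matrix (Fin n) (Fin n) F) a e)
    (hg2 : ∀ a b, a ≠ e → b ≠ e.rev → mat g a b = (1 : Matrix (Fin n) (Fin n) F) a b)
    (hh1 : ∀ a, mat h a e = (1 : Matrix (Fin n) (Fin n) F) a e)
    (hh2 : ∀ a b, a ≠ e → b ≠ e.rev → mat h a b = (1 : Matrix (Fin n) (Fin n) F) a b) :
    (∀ a, mat (g * h) a e = (1 : Matrix (Fin n) (Fin n) F) a e) ∧
      ∀ a b, a ≠ e → b ≠ e.rev → mat (g * h) a b = (1 : Matrix (Fin n) (Fin n) F) a b := by
  refine ⟨fun a => ?_, fun a b ha hb => ?_⟩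
  · rw [mat_mul, Matrix.mul_apply, Finset.sum_eq_single e
      (fun x _ hx => by rw [hh1, Matrix.one_apply_ne hx, mul_zero]) (by simp), hh1 e, Matrix.one_apply_eq,
      mul_one, hg1]
  · rcases eq_or_ne b e with rfl | hbe
    · rw [mat_mul, Matrix.mul_apply, Finset.sum_eq_single b
        (fun x _ hx => by rw [hh1, Matrix.one_apply_ne hx, mul_zero]) (by simp), hh1 b,
        Matrix.one_apply_eq, mul_one, hg1]
    rw [mat_mul, Matrix.mul_apply, Finset.sum_eq_single b]
    · rw [hh2 b b hbe hb, Matrix.one_apply_eq, mul_one, hg2 a b ha hb]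
    · intro x _ hx
      rcases eq_or_ne x e with rfl | hxe
      · rw [hg1, Matrix.one_apply_ne ha, zero_mul]
      · rw [hh2 x b hxe hb, Matrix.one_apply_ne hx, mul_zero]
    · simp

/-- The radical of the stabilizer of an isotropic point. -/
noncomputable def pointRad (hσ : IsConj σ) (e : Fin n) : Subgroup (antiSU n hσ) where
  carrier := {g | (∀ a, mat g a e = (1 : Matrix (Fin n) (Fin n) F) a e) ∧
    ∀ a b, a ≠ e → b ≠ e.rev → mat g a b = (1 : Matrix (Fin n) (Fin n) F) a b}
  one_mem' := ⟨fun _ => rfl, fun _ _ _ _ => rfl⟩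
  mul_mem' hg hh := pointRad_mul hg.1 hg.2 hh.1 hh.2
  inv_mem' hg := finite_subgroup_inv (s := {g : antiSU n hσ | (∀ a, mat g a e = (1 : Matrix (Fin n) (Fin n) F) a e) ∧
    ∀ a b, a ≠ e → b ≠ e.rev → mat g a b = (1 : Matrix (Fin n) (Fin n) F) a b}) ⟨fun _ => rfl, fun _ _ _ _ => rfl⟩
    (fun _ ha _ hb => pointRad_mul ha.1 ha.2 hb.1 hb.2) hg

theorem first_rev {e : Fin n} (he : e.1 = 0) (x : Fin n) : x ≤ e.rev := by
  simp only [Fin.le_def, Fin.val_rev]; omega

theorem pointRad_le {e : Fin n} (he : e.1 = 0) : pointRad hσ e ≤ sylU n hσ := by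
  intro g hg
  rw [mem_sylU]
  intro r s hsr
  rcases eq_or_ne s e with rfl | hs
  · rw [hg.1, Matrix.one_apply]
  have hr : r ≠ e := fun h => hs (Fin.ext (by rw [he]; have := Fin.le_def.1 hsr; rw [h, he] at this; omega))
  rcases eq_or_ne s e.rev with rfl | hs'
  · obtain rfl : r = e.rev := le_antisymm (first_rev he r) hsr
    rw [if_pos rfl]
    have h1 := inv_apply g⁻¹ e.rev e.rev
    rw [inv_inv, Fin.rev_rev, ((pointRad hσ e).inv_mem hg).1 e, Matrix.one_apply_eq, map_one] at h1
    exact h1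
  · rw [hg.2 r s hr hs', Matrix.one_apply]

/-- Conjugation by elements fixing the point. -/
theorem pointRad_conj {e : Fin n} {h g : antiSU n hσ} (hh : ∀ a, a ≠ e → mat h a e = 0)
    (hg : g ∈ pointRad hσ e) : h * g * h⁻¹ ∈ pointRad hσ e := by
  have hh' : ∀ a, a ≠ e → mat h⁻¹ a e = 0 := fun a ha => finite_subgroup_inv
    (s := {h : antiSU n hσ | ∀ a, a ≠ e → mat h a e = 0})
    (fun a ha => by rw [mat_one, Matrix.one_apply_ne ha])
    (fun x hx y hy a ha => by
      rw [mat_mul, Matrix.mul_apply]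
      refine Finset.sum_eq_zero fun z _ => ?_
      rcases eq_or_ne z e with rfl | hz
      · rw [hx a ha, zero_mul]
      · rw [hy z hz, mul_zero]) hh a ha
  obtain ⟨N, hN⟩ : ∃ N, N = mat g - 1 := ⟨_, rfl⟩
  have hN1 : ∀ a, N a e = 0 := fun a => by rw [hN, Matrix.sub_apply, hg.1 a, sub_self]
  have hN2 : ∀ a b, a ≠ e → b ≠ e.rev → N a b = 0 := fun a b ha hb => by
    rw [hN, Matrix.sub_apply, hg.2 a b ha hb, sub_self]
  have key : mat (h * g * h⁻¹) = 1 + mat h * N * mat h⁻¹ := by
    rw [hN, mul_sub, mul_one, sub_mul, mat_mul, mat_mul]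
    rw [show mat h * mat h⁻¹ = 1 by rw [← mat_mul, mul_inv_cancel, mat_one], add_sub_cancel]
  refine ⟨fun a => ?_, fun a b ha hb => ?_⟩
  · rw [key, Matrix.add_apply, Matrix.mul_apply, Finset.sum_eq_zero, add_zero]
    intro y _
    rcases eq_or_ne y e with rfl | hy
    · rw [Matrix.mul_apply, Finset.sum_eq_zero (fun x _ => by rw [hN1, mul_zero]), zero_mul]
    · rw [hh' y hy, mul_zero]
  · rw [key, Matrix.add_apply, Matrix.mul_apply, Finset.sum_eq_zero, add_zero]
    intro y _
    rcases eq_or_ne y e.rev with rfl | hy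
    · rw [inv_apply, Fin.rev_rev, hh b.rev (fun e' => hb (by rw [← e', Fin.rev_rev])), map_zero, mul_zero]
    · rw [Matrix.mul_apply, Finset.sum_eq_zero, zero_mul]
      intro x _
      rcases eq_or_ne x e with rfl | hx
      · rw [hh a ha, zero_mul]
      · rw [hN2 x y hx hy, mul_zero]

/-- Root elements with a prescribed entry in the first row. -/
theorem exists_rowFirst {e j : Fin n} (he : e.1 = 0) (hj : j ≠ e) (hj' : j ≠ e.rev) (a : F) :
    ∃ g ∈ pointRad hσ e, ∃ c : F, ∀ x y, mat g x y = (1 : Matrix (Fin n) (Fin n) F) x y +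
      (if x = e ∧ y = j then a else 0) + (if x = j.rev ∧ y = e.rev then -σ a else 0) +
      (if x = e ∧ y = e.rev then c else 0) := by
  obtain ⟨g, c, hg⟩ : ∃ (g : antiSU n hσ) (c : F), ∀ x y, mat g x y = (1 : Matrix (Fin n) (Fin n) F) x y +
      (if x = e ∧ y = j then a else 0) + (if x = j.rev ∧ y = e.rev then -σ a else 0) +
      (if x = e ∧ y = e.rev then c else 0) := by
    have hej : e < j := Fin.lt_def.2 (by rw [he]; exact Nat.pos_of_ne_zero fun h => hj (Fin.ext (by rw [h, he])))
    have hej' : e < j.rev := Fin.lt_def.2 (by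
      rw [he]; refine Nat.pos_of_ne_zero fun h => hj' ?_
      rw [show e = j.rev from Fin.ext (by rw [h, he]), Fin.rev_rev])
    rcases lt_trichotomy j j.rev with h | h | h
    · refine ⟨xA e j hej h a, 0, fun x y => ?_⟩
      rw [xA, mat_emb, embMat_apply]
      simp [Fin.sum_univ_four, shortA, mat_mk, quad, RevEmb.ofTuple, add_assoc]
    · obtain ⟨c, hc⟩ := exists_mid hσ a
      refine ⟨xM e j h.symm hej a c hc, c, fun x y => ?_⟩
      rw [xM, mat_emb, embMat_apply]
      simp only [Fin.sum_univ_three, mid3, mat_mk]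
      simp [triple, RevEmb.ofTuple, ← h]
      abel
    · have h' : j.rev < j.rev.rev := by rwa [Fin.rev_rev]
      refine ⟨xB e j.rev hej' h' a, 0, fun x y => ?_⟩
      rw [xB, mat_emb, embMat_apply]
      simp [Fin.sum_univ_four, shortB, mat_mk, quad, RevEmb.ofTuple, Fin.rev_rev, add_assoc]
  refine ⟨g, ⟨fun x => ?_, fun x y hx hy => ?_⟩, c, hg⟩
  · rw [hg, if_neg, if_neg, if_neg, add_zero, add_zero, add_zero]
    all_goals rintro ⟨-, h⟩
    · have h2 := congrArg Fin.val h
      simp only [Fin.val_rev] at h2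
      have hj0 : j.1 ≠ 0 := fun h => hj (Fin.ext (by rw [h, he]))
      omega
    · have h2 := congrArg Fin.val h
      simp only [Fin.val_rev] at h2
      have hj0 : j.1 ≠ 0 := fun h => hj (Fin.ext (by rw [h, he]))
      omega
    · exact hj h.symm
  · rw [hg, if_neg (fun e' => hx e'.1), if_neg (fun e' => hy e'.2), if_neg (fun e' => hx e'.1)]
    simp

/-- The radical contains its centralizer. -/
theorem pointRad_centralizer {e : Fin n} (he : e.1 = 0) {u : antiSU n hσ} (hu : u ∈ sylU n hσ)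
    (hc : ∀ r ∈ pointRad hσ e, u * r = r * u) : u ∈ pointRad hσ e := by
  have hle : ∀ x : Fin n, e ≤ x := fun x => Fin.le_def.2 (by omega)
  refine ⟨fun a => by rw [mem_sylU.mp hu a e (hle a), Matrix.one_apply], fun j y hj hy => ?_⟩
  rcases eq_or_ne j e.rev with rfl | hj'
  · rw [mem_sylU.mp hu e.rev y (first_rev he y), Matrix.one_apply]
  obtain ⟨g, hg, c, hge⟩ := exists_rowFirst (hσ := hσ) he hj hj' (1 : F)
  have h1 := congrFun (congrFun (congrArg mat (hc g hg)) e) y
  have hue : mat u e.rev y = 0 := by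
    rw [mem_sylU.mp hu e.rev y (first_rev he y), if_neg (Ne.symm hy)]
  have hee : mat u e e = 1 := by rw [mem_sylU.mp hu e e le_rfl, if_pos rfl]
  have hy1 : ∀ x : Fin n, ¬(x = j.rev ∧ y = e.rev) := fun x h => hy h.2
  have hy2 : ∀ x : Fin n, ¬(x = e ∧ y = e.rev) := fun x h => hy h.2
  have hj3 : j.rev ≠ e := fun h => hj' (by rw [← h, Fin.rev_rev])
  rcases eq_or_ne e e.rev with hee' | hee'
  · exact absurd (le_antisymm (hee' ▸ first_rev he j) (hle j)) hj
  simp only [mat_mul, Matrix.mul_apply, hge, mul_add, add_mul, Finset.sum_add_distrib, Matrix.one_apply,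
    mul_ite, ite_mul, mul_one, one_mul, mul_zero, zero_mul, Finset.sum_ite_eq, Finset.sum_ite_eq',
    Finset.mem_univ, if_true, if_neg (hy1 _), if_neg (hy2 _), if_neg (hy1 e), if_neg (hy2 e), ite_and,
    Finset.sum_const_zero, add_zero] at h1
  simp [hy, hue, hee, hj3.symm, add_assoc] at h1
  rw [Matrix.one_apply, ← h1]
  simp [eq_comm]

/-- The centre of the unipotent group is the root group of the highest root. -/
theorem exists_eq_xL {e : Fin n} (he : e.1 = 0) (hee : e < e.rev) {u : antiSU n hσ}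
    (hu : u ∈ sylU n hσ) (hc : ∀ r ∈ sylU n hσ, u * r = r * u) :
    ∃ (c : F) (h : c + σ c = 0), u = xL e hee c h := by
  have hQ := pointRad_centralizer he hu fun r hr => hc r (pointRad_le he hr)
  have hQi := (pointRad hσ e).inv_mem hQ
  have hinv : ∀ s, s ≠ e → mat u⁻¹ e s = -mat u e s ∨ s = e.rev := by
    intro s hs
    rcases eq_or_ne s e.rev with h | h
    · exact Or.inr h
    left
    have h1 := congrFun (congrFun (congrArg mat (mul_inv_cancel u)) e) s
    rw [mat_mul, mat_one, Matrix.mul_apply, Matrix.one_apply_ne hs.symm,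
      ← Finset.sum_subset (Finset.subset_univ {e, s}), Finset.sum_pair hs.symm, hQ.1 e, Matrix.one_apply_eq,
      one_mul, hQi.2 s s hs h, Matrix.one_apply_eq, mul_one] at h1
    · exact eq_neg_of_add_eq_zero_left h1
    intro x _ hx
    simp only [Finset.mem_insert, Finset.mem_singleton, not_or] at hx
    rw [hQi.2 x s hx.1 h, Matrix.one_apply_ne hx.2, mul_zero]
  have hzero : ∀ s, s ≠ e → s ≠ e.rev → mat u e s = 0 ∧ mat u s.rev e.rev = 0 := by
    intro s hs hs'
    have hr : mat u s.rev e.rev = -σ (mat u e s) := by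
      have h2 := (hinv s hs).resolve_right hs'
      rw [inv_apply] at h2
      apply hσ.inj
      rw [h2, map_neg, hσ.invol]
    have key : ∀ a : F, mat u e s * σ a = a * σ (mat u e s) := by
      intro a
      obtain ⟨g, hg, c, hge⟩ := exists_rowFirst (hσ := hσ) (j := s.rev) he
        (fun h => hs' (by rw [← h, Fin.rev_rev])) (fun h => hs (Fin.rev_inj.mp h)) a
      have h1 := congrFun (congrFun (congrArg mat (hc g (pointRad_le he hg))) e) e.rev
      simp only [mat_mul, Matrix.mul_apply, hge, Fin.rev_rev, mul_add, add_mul, Finset.sum_add_distrib,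
        Matrix.one_apply, mul_ite, ite_mul, mul_one, one_mul, mul_zero, zero_mul, Finset.sum_ite_eq,
        Finset.sum_ite_eq', Finset.mem_univ, if_true, ite_and, Finset.sum_const_zero, true_and] at h1
      simp [hs.symm, hs', hee.ne, hee.ne', hQ.1 e, hr,
        show mat u e.rev e.rev = 1 by rw [mem_sylU.mp hu _ _ le_rfl, if_pos rfl],
        show e.rev ≠ s.rev from fun h => hs (Fin.rev_inj.mp h).symm, mul_comm] at h1
      linear_combination h1
    obtain ⟨θ, hθ⟩ := hσ.ne_id
    have h1 := key 1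
    rw [map_one, mul_one, one_mul] at h1
    have h2 := key θ
    rw [← h1] at h2
    have h0 : mat u e s = 0 := by
      by_contra h
      exact hθ (mul_left_cancel₀ h (h2.trans (mul_comm _ _)))
    exact ⟨h0, by rw [hr, h0, map_zero, neg_zero]⟩
  set c := mat u e e.rev
  have hskew : c + σ c = 0 := by
    have h1 := congrFun (congrFun (congrArg mat (mul_inv_cancel u)) e) e.rev
    rw [mat_mul, mat_one, Matrix.mul_apply, Matrix.one_apply_ne hee.ne,
      ← Finset.sum_subset (Finset.subset_univ {e, e.rev}), Finset.sum_pair hee.ne, hQ.1 e, Matrix.one_apply_eq,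
      one_mul, inv_apply u e.rev e.rev, Fin.rev_rev, hQ.1 e, Matrix.one_apply_eq, map_one, mul_one,
      inv_apply, Fin.rev_rev] at h1
    · rw [add_comm]; exact h1
    intro x _ hx
    simp only [Finset.mem_insert, Finset.mem_singleton, not_or] at hx
    rw [(hzero x hx.1 hx.2).1, zero_mul]
  refine ⟨c, hskew, mat_injective ?_⟩
  ext x y
  have hx0 : mat (xL (hσ := hσ) e hee c hskew) x y =
      (1 : Matrix (Fin n) (Fin n) F) x y + if x = e ∧ y = e.rev then c else 0 := by
    rw [xL, mat_emb, embMat_apply]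
    simp [Fin.sum_univ_two, long2, mat_mk, pair, RevEmb.ofTuple]
  rw [hx0]
  rcases eq_or_ne x e with rfl | hx
  · rcases eq_or_ne y x.rev with rfl | hy
    · simp [c, hee.ne]
    · rw [if_neg (fun h => hy h.2), add_zero]
      rcases eq_or_ne y x with rfl | hy'
      · exact hQ.1 y
      · rw [(hzero y hy' hy).1, Matrix.one_apply_ne hy'.symm]
  · rw [if_neg (fun h => hx h.1), add_zero]
    rcases eq_or_ne y e.rev with rfl | hy
    · rcases eq_or_ne x e.rev with rfl | hx'
      · rw [mem_sylU.mp hu _ _ le_rfl, if_pos rfl, Matrix.one_apply_eq]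
      · have h2 := (hzero x.rev (fun h => hx' (by rw [← h, Fin.rev_rev])) (fun h => hx (Fin.rev_inj.mp h))).2
        rw [Fin.rev_rev] at h2
        rw [h2, Matrix.one_apply_ne hx']
    · exact hQ.2 x y hx hy

end Cfsg.Lib.Fusion.PSU
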