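import Cfsg.Agent.Fusion.PSU.Basic

/-!
Root elements and identities in the special unitary groups of dimensions at most five.
-/

set_option autoImplicit false
set_option linter.unusedSectionVars false
set_option linter.unusedSimpArgs false
set_option linter.unnecessarySeqFocus false
set_option linter.unreachableTactic false
set_option linter.unusedTactic false
set_option linter.unusedVariables false
set_option maxHeartbeats 1000000

namespace Cfsg.Lib.Fusion.PSU

open Matrix Cfsg.Lib.Classical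

variable {F : Type*} [Field F] {σ : F →+* F} {hσ : IsConj σ}

theorem sig_eq_neg {c : F} (hc : c + σ c = 0) : σ c = -c := eq_neg_of_add_eq_zero_right hc

theorem sig_eq_of_mid {b c : F} (h : c + σ c + b * σ b = 0) : σ c = -c - b * σ b := by
  linear_combination h

/-- Long root element. -/
def long2 (c : F) (hc : c + σ c = 0) : antiSU 2 hσ :=
  mk !![1, c; 0, 1] (by
    ext i j; fin_cases i <;> fin_cases j <;> simp [adj, Matrix.mul_apply, Fin.rev, sig_eq_neg hc])
    (by simp [Matrix.det_fin_two])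

/-- Root element through the middle. -/
def mid3 (b c : F) (h : c + σ c + b * σ b = 0) : antiSU 3 hσ :=
  mk !![1, b, c; 0, 1, -σ b; 0, 0, 1] (by
    ext i j; fin_cases i <;> fin_cases j <;>
      simp [adj, Matrix.mul_apply, Fin.sum_univ_three, Fin.rev, sig_eq_of_mid h, hσ.invol] <;> ring)
    (by simp [Matrix.det_fin_three])

/-- Levi root element. -/
def shortA (a : F) : antiSU 4 hσ :=
  mk !![1, a, 0, 0; 0, 1, 0, 0; 0, 0, 1, -σ a; 0, 0, 0, 1] (by
    ext i j; fin_cases i <;> fin_cases j <;>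
      simp [adj, Matrix.mul_apply, Fin.sum_univ_four, Fin.rev, hσ.invol])
    (by simp [Matrix.det_succ_row_zero, Fin.sum_univ_succ, Fin.succAbove])

/-- Radical root element. -/
def shortB (a : F) : antiSU 4 hσ :=
  mk !![1, 0, a, 0; 0, 1, 0, -σ a; 0, 0, 1, 0; 0, 0, 0, 1] (by
    ext i j; fin_cases i <;> fin_cases j <;>
      simp [adj, Matrix.mul_apply, Fin.sum_univ_four, Fin.rev, hσ.invol])
    (by simp [Matrix.det_succ_row_zero, Fin.sum_univ_succ, Fin.succAbove])

/-- The Levi `SL 2`. -/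
def levMat (M : Matrix.SpecialLinearGroup (Fin 2) F) (σ : F →+* F) : Matrix (Fin 4) (Fin 4) F :=
  !![M.1 0 0, M.1 0 1, 0, 0; M.1 1 0, M.1 1 1, 0, 0; 0, 0, σ (M.1 0 0), -σ (M.1 0 1);
    0, 0, -σ (M.1 1 0), σ (M.1 1 1)]

theorem levMat_mul (M N : Matrix.SpecialLinearGroup (Fin 2) F) :
    levMat (M * N) σ = levMat M σ * levMat N σ := by
  ext i j
  fin_cases i <;> fin_cases j <;>
    simp [levMat, Matrix.mul_apply, Fin.sum_univ_four, Fin.sum_univ_two] <;> ring

/-- The Levi `SL 2`, as a homomorphism. -/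
def lev4 : Matrix.SpecialLinearGroup (Fin 2) F →* antiSU 4 hσ where
  toFun M := mk (levMat M σ) (by
      have h : M.1 0 0 * M.1 1 1 - M.1 0 1 * M.1 1 0 = 1 := by rw [← Matrix.det_fin_two]; exact M.2
      have h' : σ (M.1 0 0) * σ (M.1 1 1) - σ (M.1 0 1) * σ (M.1 1 0) = 1 := by
        rw [← map_mul, ← map_mul, ← map_sub, h, map_one]
      ext i j; fin_cases i <;> fin_cases j <;>
        simp [levMat, adj, Matrix.mul_apply, Fin.sum_univ_four, Fin.rev, hσ.invol] <;>
        first
        | ring1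
        | linear_combination h
        | linear_combination h')
    (by
      have h : M.1 0 0 * M.1 1 1 - M.1 0 1 * M.1 1 0 = 1 := by rw [← Matrix.det_fin_two]; exact M.2
      have h' : σ (M.1 0 0) * σ (M.1 1 1) - σ (M.1 0 1) * σ (M.1 1 0) = 1 := by
        rw [← map_mul, ← map_mul, ← map_sub, h, map_one]
      simp [levMat, Matrix.det_succ_row_zero, Fin.sum_univ_succ, Fin.succAbove]
      linear_combination (σ (M.1 0 0) * σ (M.1 1 1) - σ (M.1 0 1) * σ (M.1 1 0)) * h + h')
  map_one' := mat_injective (by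
    rw [mat_mk, mat_one]
    ext i j; fin_cases i <;> fin_cases j <;> simp [levMat])
  map_mul' M N := mat_injective (by rw [mat_mk, mat_mul, mat_mk, mat_mk, levMat_mul])

/-- The long Weyl element. -/
def weyl2 (c : F) (hc : c ≠ 0) (h : c + σ c = 0) : antiSU 2 hσ :=
  (flip (long2 c⁻¹ (by rw [map_inv₀, sig_eq_neg h, inv_neg, add_neg_cancel])))⁻¹ * long2 c h *
    (flip (long2 c⁻¹ (by rw [map_inv₀, sig_eq_neg h, inv_neg, add_neg_cancel])))⁻¹

theorem mat_weyl2 (c : F) (hc : c ≠ 0) (h : c + σ c = 0) :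
    mat (weyl2 (hσ := hσ) c hc h) = !![0, c; -c⁻¹, 0] := by
  simp only [weyl2, mat_mul, mat_inv, mat_flip, long2, mat_mk]
  ext i j; fin_cases i <;> fin_cases j <;>
    simp [adj, Matrix.mul_apply, Fin.rev, sig_eq_neg h, hc]

theorem inv_aux {b c : F} (hc : c ≠ 0) (h : c + σ c + b * σ b = 0) (hσ : IsConj σ) :
    c⁻¹ + σ c⁻¹ + b / σ c * σ (b / σ c) = 0 ∧ c⁻¹ + σ c⁻¹ + b / c * σ (b / c) = 0 := by
  have hsc : σ c ≠ 0 := by simpa using hc
  constructor <;> simp only [map_div₀, map_inv₀, hσ.invol] <;> field_simp <;> linear_combination h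

/-- The Weyl element through the middle. -/
def weyl3 (b c : F) (hc : c ≠ 0) (h : c + σ c + b * σ b = 0) : antiSU 3 hσ :=
  (flip (mid3 (b / σ c) c⁻¹ (inv_aux hc h hσ).1))⁻¹ * mid3 b c h *
    (flip (mid3 (b / c) c⁻¹ (inv_aux hc h hσ).2))⁻¹

theorem mat_weyl3 (b c : F) (hc : c ≠ 0) (h : c + σ c + b * σ b = 0) :
    mat (weyl3 (hσ := hσ) b c hc h) = !![0, 0, c; 0, -(σ c / c), 0; (σ c)⁻¹, 0, 0] := by
  have hsc : σ c ≠ 0 := by simpa using hc
  simp only [weyl3, mat_mul, mat_inv, mat_flip, mid3, mat_mk]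
  ext i j; fin_cases i <;> fin_cases j <;>
    simp [adj, Matrix.mul_apply, Fin.sum_univ_three, Fin.rev, hσ.invol] <;>
    field_simp <;>
    first
    | ring1
    | linear_combination h
    | linear_combination -h
    | linear_combination c * h
    | linear_combination σ c * h
    | linear_combination b * h
    | linear_combination σ b * h
    | linear_combination -b * h
    | linear_combination -σ b * h

/-- The torus of the long root. -/
theorem mat_torus2 (t ε : F) (ht : t ≠ 0) (hε : ε ≠ 0) (h : ε + σ ε = 0)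
    (h' : t * ε + σ (t * ε) = 0) :
    mat (weyl2 (hσ := hσ) (t * ε) (mul_ne_zero ht hε) h' * (weyl2 ε hε h)⁻¹) = !![t, 0; 0, t⁻¹] := by
  simp only [mat_mul, mat_inv, mat_weyl2]
  ext i j; fin_cases i <;> fin_cases j <;>
    simp [adj, Matrix.mul_apply, Fin.rev, sig_eq_neg h] <;> field_simp

/-- The torus through the middle. -/
theorem mat_torus3 (t b b₀ : F) (ht : t ≠ 0) (h : t + σ t + b * σ b = 0) (h₀ : 1 + σ 1 + b₀ * σ b₀ = 0) :
    mat (weyl3 (hσ := hσ) b t ht h * (weyl3 b₀ 1 one_ne_zero h₀)⁻¹) =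
      !![t, 0, 0; 0, σ t / t, 0; 0, 0, (σ t)⁻¹] := by
  simp only [mat_mul, mat_inv, mat_weyl3]
  ext i j; fin_cases i <;> fin_cases j <;>
    simp [adj, Matrix.mul_apply, Fin.sum_univ_three, Fin.rev]

/-- A map from a tuple. -/
def RevEmb.ofTuple {k n : ℕ} (f : Fin k → Fin n) (hm : StrictMono f) (hr : ∀ a, f a.rev = (f a).rev) :
    RevEmb k n := ⟨f, hm.injective, hr⟩

/-- The outer pair in four. -/
def outer24 : RevEmb 2 4 := .ofTuple ![0, 3] (by decide) (by decide)

/-- The inner pair in four. -/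
def inner24 : RevEmb 2 4 := .ofTuple ![1, 2] (by decide) (by decide)

/-- Four in five. -/
def four5 : RevEmb 4 5 := .ofTuple ![0, 1, 3, 4] (by decide) (by decide)

/-- The outer triple in five. -/
def outer35 : RevEmb 3 5 := .ofTuple ![0, 2, 4] (by decide) (by decide)

/-- The inner triple in five. -/
def inner35 : RevEmb 3 5 := .ofTuple ![1, 2, 3] (by decide) (by decide)

theorem embMat_four5 (M : Matrix (Fin 4) (Fin 4) F) : embMat four5 M =
    !![M 0 0, M 0 1, 0, M 0 2, M 0 3; M 1 0, M 1 1, 0, M 1 2, M 1 3; 0, 0, 1, 0, 0;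
      M 2 0, M 2 1, 0, M 2 2, M 2 3; M 3 0, M 3 1, 0, M 3 2, M 3 3] := by
  ext i j; fin_cases i <;> fin_cases j <;>
    simp [embMat_apply, four5, RevEmb.ofTuple, Fin.sum_univ_four]

theorem embMat_outer35 (M : Matrix (Fin 3) (Fin 3) F) : embMat outer35 M =
    !![M 0 0, 0, M 0 1, 0, M 0 2; 0, 1, 0, 0, 0; M 1 0, 0, M 1 1, 0, M 1 2; 0, 0, 0, 1, 0;
      M 2 0, 0, M 2 1, 0, M 2 2] := by
  ext i j; fin_cases i <;> fin_cases j <;>
    simp [embMat_apply, outer35, RevEmb.ofTuple, Fin.sum_univ_three]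

theorem embMat_inner35 (M : Matrix (Fin 3) (Fin 3) F) : embMat inner35 M =
    !![1, 0, 0, 0, 0; 0, M 0 0, M 0 1, M 0 2, 0; 0, M 1 0, M 1 1, M 1 2, 0;
      0, M 2 0, M 2 1, M 2 2, 0; 0, 0, 0, 0, 1] := by
  ext i j; fin_cases i <;> fin_cases j <;>
    simp [embMat_apply, inner35, RevEmb.ofTuple, Fin.sum_univ_three]

theorem embMat_outer24 (M : Matrix (Fin 2) (Fin 2) F) : embMat outer24 M =
    !![M 0 0, 0, 0, M 0 1; 0, 1, 0, 0; 0, 0, 1, 0; M 1 0, 0, 0, M 1 1] := by
  ext i j; fin_cases i <;> fin_cases j <;>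
    simp [embMat_apply, outer24, RevEmb.ofTuple, Fin.sum_univ_two]

theorem embMat_inner24 (M : Matrix (Fin 2) (Fin 2) F) : embMat inner24 M =
    !![1, 0, 0, 0; 0, M 0 0, M 0 1, 0; 0, M 1 0, M 1 1, 0; 0, 0, 0, 1] := by
  ext i j; fin_cases i <;> fin_cases j <;>
    simp [embMat_apply, inner24, RevEmb.ofTuple, Fin.sum_univ_two]

/-- The lower transvection of `SL 2`. -/
def lowSL (t : F) : Matrix.SpecialLinearGroup (Fin 2) F := ⟨!![1, 0; t, 1], by simp [Matrix.det_fin_two]⟩

/-- The rotation of `SL 2`. -/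
def rotSL : Matrix.SpecialLinearGroup (Fin 2) F := ⟨!![0, -1; 1, 0], by simp [Matrix.det_fin_two]⟩

theorem skew_norm {c : F} (hc : c + σ c = 0) (hσ : IsConj σ) (t : F) :
    t * σ t * c + σ (t * σ t * c) = 0 := by
  rw [map_mul, hσ.norm_mem, ← mul_add, hc, mul_zero]

/-- Conjugating a long root element by a Levi element. -/
theorem lev_conj_long (t c : F) (hc : c + σ c = 0) :
    lev4 (hσ := hσ) (lowSL t) * emb outer24 (long2 c hc) * (lev4 (lowSL t))⁻¹ =
      emb outer24 (long2 c hc) * emb inner24 (long2 (t * σ t * c) (skew_norm hc hσ t)) *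
        shortB (c * σ t) := by
  apply mat_injective
  simp only [mat_mul, mat_inv, mat_emb, lev4, MonoidHom.coe_mk, OneHom.coe_mk, mat_mk, long2, shortB,
    embMat_outer24, embMat_inner24]
  ext i j; fin_cases i <;> fin_cases j <;>
    simp [levMat, lowSL, adj, Matrix.mul_apply, Fin.sum_univ_four, Fin.rev, hσ.invol, sig_eq_neg hc] <;> ring

/-- Moving the long root to the next pair. -/
theorem rot_conj_long (c : F) (hc : c + σ c = 0) :
    lev4 (hσ := hσ) rotSL * emb outer24 (long2 c hc) * (lev4 rotSL)⁻¹ = emb inner24 (long2 c hc) := by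
  apply mat_injective
  simp only [mat_mul, mat_inv, mat_emb, lev4, MonoidHom.coe_mk, OneHom.coe_mk, mat_mk, long2,
    embMat_outer24, embMat_inner24]
  ext i j; fin_cases i <;> fin_cases j <;>
    simp [levMat, rotSL, adj, Matrix.mul_apply, Fin.sum_univ_four, Fin.rev]

/-- The Weyl element of the inner pair exchanges the two short roots. -/
theorem weyl_conj_short (a ε : F) (hε : ε ≠ 0) (h : ε + σ ε = 0) :
    emb inner24 (weyl2 (hσ := hσ) ε hε h) * shortB (a * ε) * (emb inner24 (weyl2 ε hε h))⁻¹ = shortA a := by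
  apply mat_injective
  simp only [mat_mul, mat_inv, mat_emb, mat_weyl2, shortA, shortB, mat_mk, embMat_inner24]
  ext i j; fin_cases i <;> fin_cases j <;>
    simp [adj, Matrix.mul_apply, Fin.sum_univ_four, Fin.rev, sig_eq_neg h, hε] <;> field_simp

/-- The commutator giving the middle root elements. -/
theorem short_mid_comm (b c : F) (h : c + σ c + b * σ b = 0) :
    (emb inner35 (mid3 (hσ := hσ) b c h))⁻¹ * emb four5 (shortA 1) * emb inner35 (mid3 b c h) *
      (emb four5 (shortA 1))⁻¹ = emb outer35 (mid3 b c h) * emb four5 (shortB c) := by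
  apply mat_injective
  simp only [mat_mul, mat_inv, mat_emb, shortA, shortB, mid3, mat_mk, embMat_four5, embMat_inner35,
    embMat_outer35]
  ext i j; fin_cases i <;> fin_cases j <;>
    simp [adj, Matrix.mul_apply, Fin.sum_univ_five, Fin.rev, hσ.invol, sig_eq_of_mid h] <;> ring

/-- Moving the middle root to the next pair. -/
theorem rot_conj_mid (b c : F) (h : c + σ c + b * σ b = 0) :
    emb four5 (lev4 (hσ := hσ) rotSL) * emb outer35 (mid3 b c h) * (emb four5 (lev4 rotSL))⁻¹ =
      emb inner35 (mid3 b c h) := by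
  apply mat_injective
  simp only [mat_mul, mat_inv, mat_emb, lev4, MonoidHom.coe_mk, OneHom.coe_mk, mat_mk, mid3, embMat_four5,
    embMat_inner35, embMat_outer35]
  ext i j; fin_cases i <;> fin_cases j <;>
    simp [levMat, rotSL, adj, Matrix.mul_apply, Fin.sum_univ_five, Fin.rev]

/-- Scaling the long root. -/
theorem diag_conj_long (t c : F) (ht : t ≠ 0) (hc : c + σ c = 0) :
    lev4 (hσ := hσ) (Matrix.SpecialLinearGroup.diag2n (show (0 : Fin 2) ≠ 1 by decide) t ht) *
      emb outer24 (long2 c hc) *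
      (lev4 (Matrix.SpecialLinearGroup.diag2n (show (0 : Fin 2) ≠ 1 by decide) t ht))⁻¹ =
      emb outer24 (long2 (t * σ t * c) (skew_norm hc hσ t)) := by
  have hst : σ t ≠ 0 := (map_ne_zero σ).mpr ht
  apply mat_injective
  simp only [mat_mul, mat_inv, mat_emb, lev4, MonoidHom.coe_mk, OneHom.coe_mk, mat_mk, long2,
    embMat_outer24]
  ext i j; fin_cases i <;> fin_cases j <;>
    simp [levMat, Matrix.SpecialLinearGroup.diag2n_coe, adj, Matrix.mul_apply, Fin.sum_univ_four,
      Fin.rev, hσ.invol, hst] <;> field_simp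

end Cfsg.Lib.Fusion.PSU
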