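import Cfsg.Agent.Fusion.PSU.Main
import Cfsg.Agent.Classical.Unitary.Matrix

/-!
`SU n F q` in anti-diagonal coordinates.
-/

set_option autoImplicit false
set_option linter.unusedSectionVars false

namespace Cfsg.Lib.Fusion.PSU

open Matrix Cfsg Cfsg.Lib.Classical

variable {F : Type*} [Field F] [Fintype F] {q n : ℕ}

/-- The anti-diagonal form. -/
def antiForm (σ : F →+* F) (u v : Fin n → F) : F := ∑ i, u i * σ (v i.rev)

theorem antiForm_symm {σ : F →+* F} (hσ : IsConj σ) (u v : Fin n → F) :
    antiForm σ u v = σ (antiForm σ v u) := by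
  rw [antiForm, antiForm, map_sum]
  refine (Equiv.sum_comp Fin.revPerm _).symm.trans (Finset.sum_congr rfl fun x _ => ?_)
  simp [hσ.invol, mul_comm]

/-- The anti-diagonal Hermitian space. -/
noncomputable def antiHerm (hF : Fintype.card F = q ^ 2) (n : ℕ) : HermSpace F (Fin n → F) where
  σ := powConj hF
  h := antiForm (powConj hF)
  conj := powConj_isConj hF
  add_left x y z := by simp [antiForm, add_mul, Finset.sum_add_distrib]
  smul_left c x z := by simp [antiForm, Finset.mul_sum, mul_assoc]
  symm := antiForm_symm (powConj_isConj hF)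
  nondeg v hv := by
    classical
    funext i
    have := hv (Pi.single i.rev 1)
    rw [antiForm, Finset.sum_eq_single i.rev (fun j _ hj => by simp [hj]) (by simp)] at this
    simpa [(powConj_isConj hF).eq_zero, Fin.rev_rev] using this

theorem adj_mul_eq_one_iff {σ : F →+* F} (hσ : IsConj σ) (A : Matrix (Fin n) (Fin n) F) :
    adj σ A * A = 1 ↔ ∀ x y, antiForm σ (A *ᵥ x) (A *ᵥ y) = antiForm σ x y := by
  classical
  have key : ∀ i j, antiForm σ (A *ᵥ Pi.single i 1) (A *ᵥ Pi.single j 1) = (adj σ A * A) j.rev i := by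
    intro i j
    rw [antiForm, Matrix.mul_apply]
    refine Finset.sum_congr rfl fun a _ => ?_
    simp [adj_apply, mulVec_single_one, Fin.rev_rev, mul_comm]
  constructor
  · intro h x y
    rw [antiForm, antiForm]
    simp only [Matrix.mulVec, dotProduct, map_sum, map_mul, Finset.sum_mul_sum]
    rw [Finset.sum_comm]
    refine Finset.sum_congr rfl fun i _ => ?_
    rw [Finset.sum_comm, Finset.sum_eq_single i.rev]
    · have h1 : ∑ a, σ (A a.rev i.rev) * A a i = 1 := by
        have h2 := congrFun (congrFun h i) i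
        rw [Matrix.one_apply_eq, Matrix.mul_apply] at h2
        simpa [adj_apply] using h2
      calc _ = (∑ a, σ (A a.rev i.rev) * A a i) * (x i * σ (y i.rev)) := by
            rw [Finset.sum_mul]; exact Finset.sum_congr rfl fun a _ => by ring
        _ = _ := by rw [h1, one_mul]
    · intro j _ hj
      have h1 : ∑ a, σ (A a.rev j) * A a i = 0 := by
        have h2 := congrFun (congrFun h j.rev) i
        rw [Matrix.one_apply_ne (fun e => hj (by rw [← e, Fin.rev_rev])), Matrix.mul_apply] at h2
        simpa [adj_apply, Fin.rev_rev] using h2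
      calc _ = (∑ a, σ (A a.rev j) * A a i) * (x i * σ (y j)) := by
            rw [Finset.sum_mul]; exact Finset.sum_congr rfl fun a _ => by ring
        _ = _ := by rw [h1, zero_mul]
    · simp
  · intro h
    ext r i
    have h1 := key i r.rev
    rw [h, Fin.rev_rev] at h1
    rw [← h1, antiForm, Finset.sum_eq_single i (fun j _ hj => by simp [hj]) (by simp)]
    by_cases e : r = i
    · subst e; simp
    · simp [Matrix.one_apply_ne e, Pi.single_apply, Fin.rev_inj, Ne.symm e]

/-- The coordinate change. -/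
theorem exists_equiv (hF : Fintype.card F = q ^ 2) (n : ℕ) :
    Nonempty (antiSU n (powConj_isConj hF) ≃* Cfsg.SU n F q) := by
  classical
  obtain ⟨e, he⟩ := (antiHerm hF n).exists_isometry (stdHerm n hF) rfl rfl
  set M := LinearMap.toMatrix' e.toLinearMap
  set M' := LinearMap.toMatrix' e.symm.toLinearMap
  have hMx : ∀ x, M *ᵥ x = e x := fun x => LinearMap.toMatrix'_mulVec _ x
  have hMx' : ∀ x, M' *ᵥ x = e.symm x := fun x => LinearMap.toMatrix'_mulVec _ x
  have hMM' : M * M' = 1 := by
    refine Matrix.toLin'.injective (LinearMap.ext fun x => ?_)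
    simp [Matrix.toLin'_apply, ← Matrix.mulVec_mulVec, hMx, hMx']
  have hM'M : M' * M = 1 := mul_eq_one_comm.mp hMM'
  have hform : ∀ x y, Cfsg.hermForm n F q (M *ᵥ x) (M *ᵥ y) = antiForm (powConj hF) x y := fun x y => by
    rw [← stdHerm_h hF, hMx, hMx]; exact he x y
  have hdet : M.det * M'.det = 1 := by rw [← det_mul, hMM', det_one]
  have hto : ∀ g : antiSU n (powConj_isConj hF), (M * mat g * M').det = 1 := fun g => by
    rw [det_mul, det_mul, det_mat, mul_one, hdet]
  have hfrom : ∀ g : Matrix.SpecialLinearGroup (Fin n) F,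
      (M' * (g : Matrix (Fin n) (Fin n) F) * M).det = 1 := fun g => by
    rw [det_mul, det_mul, g.2, mul_one, mul_comm, hdet]
  have hpres : ∀ (A : Matrix (Fin n) (Fin n) F),
      (∀ x y, antiForm (powConj hF) (A *ᵥ x) (A *ᵥ y) = antiForm (powConj hF) x y) ↔
      ∀ u v, Cfsg.hermForm n F q ((M * A * M') *ᵥ u) ((M * A * M') *ᵥ v) = Cfsg.hermForm n F q u v := by
    intro A
    have e1 : ∀ u v, Cfsg.hermForm n F q u v = antiForm (powConj hF) (M' *ᵥ u) (M' *ᵥ v) := fun u v => by
      rw [← hform, Matrix.mulVec_mulVec, Matrix.mulVec_mulVec, hMM', one_mulVec, one_mulVec]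
    have e2 : M' * (M * A * M') = A * M' := by
      rw [← Matrix.mul_assoc, ← Matrix.mul_assoc, hM'M, Matrix.one_mul]
    constructor
    · intro h u v
      rw [e1, Matrix.mulVec_mulVec, Matrix.mulVec_mulVec, e2, ← Matrix.mulVec_mulVec, ← Matrix.mulVec_mulVec, h,
        ← e1]
    · intro h x y
      have h1 := h (M *ᵥ x) (M *ᵥ y)
      rw [e1, e1 (M *ᵥ x)] at h1
      simp only [Matrix.mulVec_mulVec, ← Matrix.mul_assoc, hM'M, Matrix.one_mul] at h1
      simp only [Matrix.mul_assoc, hM'M, Matrix.mul_one, one_mulVec] at h1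
      exact h1
  refine ⟨{
    toFun := fun g => ⟨⟨M * mat g * M', hto g⟩, (hpres (mat g)).mp
      ((adj_mul_eq_one_iff (powConj_isConj hF) _).mp (adj_mul_self g))⟩
    invFun := fun g => mk (M' * ((g : Matrix.SpecialLinearGroup (Fin n) F) : Matrix (Fin n) (Fin n) F) * M)
      ((adj_mul_eq_one_iff (powConj_isConj hF) _).mpr ((hpres _).mpr (by
        rw [show M * (M' * ((g : Matrix.SpecialLinearGroup (Fin n) F) : Matrix (Fin n) (Fin n) F) * M) * M' =
          ((g : Matrix.SpecialLinearGroup (Fin n) F) : Matrix (Fin n) (Fin n) F) by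
          simp only [← Matrix.mul_assoc, hMM', Matrix.one_mul]
          rw [Matrix.mul_assoc, hMM', Matrix.mul_one]]
        exact g.2))) (hfrom g.1)
    left_inv := fun g => mat_injective (by
      show M' * (M * mat g * M') * M = mat g
      simp only [← Matrix.mul_assoc, hM'M, Matrix.one_mul]
      rw [Matrix.mul_assoc, hM'M, Matrix.mul_one])
    right_inv := fun g => Subtype.ext (Subtype.ext (by
      show M * (M' * ((g : Matrix.SpecialLinearGroup (Fin n) F) : Matrix (Fin n) (Fin n) F) * M) * M' = _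
      simp only [← Matrix.mul_assoc, hMM', Matrix.one_mul]
      rw [Matrix.mul_assoc, hMM', Matrix.mul_one]))
    map_mul' := fun g h => Subtype.ext (Subtype.ext (by
      show M * (mat g * mat h) * M' = M * mat g * M' * (M * mat h * M')
      simp only [Matrix.mul_assoc]
      rw [← Matrix.mul_assoc M' M, hM'M, Matrix.one_mul])) }⟩

theorem isSimple_PSU (p : ℕ) [Fact p.Prime] [CharP F p] (hF : Fintype.card F = q ^ 2) (hn : 4 ≤ n)
    (S : Sylow p (Cfsg.PSU n F q)) : (groupFusionSystem (S : Subgroup (Cfsg.PSU n F q))).IsSimple p := by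
  obtain ⟨E⟩ := exists_equiv hF n
  set π : antiSU n (powConj_isConj hF) →* Cfsg.PSU n F q :=
    (QuotientGroup.mk' (Subgroup.center (Cfsg.SU n F q))).comp E.toMonoidHom
  have hker : ∀ z, π z = 1 → E z ∈ Subgroup.center (Cfsg.SU n F q) := fun z hz =>
    (QuotientGroup.eq_one_iff _).mp hz
  refine isSimple (π := π) ⟨(QuotientGroup.mk'_surjective _).comp E.surjective, fun z hz => ?_, fun z hz e he => ?_⟩
    hn S
  · refine Subgroup.mem_center_iff.mpr fun g => E.injective ?_
    rw [map_mul, map_mul]
    exact Subgroup.mem_center_iff.mp (hker z hz) (E g)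
  · refine E.injective ?_
    rw [map_one, ← orderOf_eq_one_iff]
    have h1 : (E z) ^ Nat.gcd n (q + 1) = 1 := by
      rw [← card_center_SU hF (show 2 ≤ n by omega)]
      have := pow_card_eq_one' (G := Subgroup.center (Cfsg.SU n F q)) (x := ⟨E z, hker z hz⟩)
      exact congrArg Subtype.val this
    have h2 := (orderOf_dvd_of_pow_eq_one h1).trans (Nat.gcd_dvd_right _ _)
    have h3 : orderOf (E z) ∣ p ^ e := orderOf_dvd_of_pow_eq_one (by rw [← map_pow, he, map_one])
    have hcop : Nat.Coprime (p ^ e) (q + 1) := by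
      refine Nat.Coprime.pow_left _ ((Nat.Prime.coprime_iff_not_dvd Fact.out).mpr fun h => ?_)
      obtain ⟨k, -, hk⟩ := FiniteField.card F p
      have hpq : p ∣ q := (Fact.out : p.Prime).dvd_of_dvd_pow (n := 2) (by rw [← hF, hk]; exact dvd_pow_self p k.2.ne')
      exact (Fact.out : p.Prime).ne_one (Nat.dvd_one.mp ((Nat.dvd_add_right hpq).mp h))
    exact Nat.eq_one_of_dvd_coprimes hcop h3 h2

end Cfsg.Lib.Fusion.PSU
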