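import Cfsg.Agent.Fusion.PSU.Small

/-!
The standard unipotent subgroup of the special unitary group and its root elements.
-/

set_option autoImplicit false
set_option linter.unusedSectionVars false
set_option linter.unusedSimpArgs false
set_option linter.unnecessarySeqFocus false

namespace Cfsg.Lib.Fusion.PSU

open Matrix Cfsg.Lib.Classical Cfsg.Lib.Known.AutPSLn

variable {F : Type*} [Field F] [Fintype F] {σ : F →+* F} {hσ : IsConj σ} {n k : ℕ}

/-- The standard unipotent subgroup. -/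
noncomputable def sylU (n : ℕ) (hσ : IsConj σ) : Subgroup (antiSU n hσ) :=
  (upperUni (F := F) (n := n)).comap (antiSU n hσ).subtype

theorem mem_sylU {g : antiSU n hσ} : g ∈ sylU n hσ ↔ IsUpperUni (mat g) := Iff.rfl

theorem RevEmb.ext {ψ φ : RevEmb k n} (h : ∀ a, ψ a = φ a) : ψ = φ := by
  obtain ⟨f, hf, hr⟩ := ψ
  obtain ⟨g, hg, hs⟩ := φ
  obtain rfl : f = g := funext h
  rfl

theorem emb_mem_sylU {ψ : RevEmb k n} (hm : StrictMono ψ.toFun) {g : antiSU k hσ} (hg : g ∈ sylU k hσ) :
    emb ψ g ∈ sylU n hσ := by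
  rw [mem_sylU, mat_emb]
  intro r s hsr
  by_cases hr : ∃ a, r = ψ a
  · obtain ⟨a, rfl⟩ := hr
    by_cases hs : ∃ b, s = ψ b
    · obtain ⟨b, rfl⟩ := hs
      rw [embMat_apply_apply ψ.inj, mem_sylU.mp hg a b (hm.le_iff_le.mp hsr)]
      simp [ψ.inj.eq_iff]
    · rw [embMat_apply_right _ _ (not_exists.mp hs), Matrix.one_apply]
  · rw [embMat_apply_left _ (not_exists.mp hr), Matrix.one_apply]

/-- A hyperbolic pair. -/
def pair (i : Fin n) (h : i < i.rev) : RevEmb 2 n :=
  .ofTuple ![i, i.rev]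
    (Fin.strictMono_iff_lt_succ.mpr fun a => by fin_cases a; simpa using h)
    (fun a => by fin_cases a <;> simp [Fin.rev_rev, show Fin.rev (0 : Fin 2) = 1 from rfl,
      show Fin.rev (1 : Fin 2) = 0 from rfl])

/-- A pair with the middle. -/
def triple (i μ : Fin n) (hμ : μ.rev = μ) (h : i < μ) : RevEmb 3 n :=
  .ofTuple ![i, μ, i.rev]
    (Fin.strictMono_iff_lt_succ.mpr fun a => by
      have hr := Fin.rev_lt_rev.mpr h
      rw [hμ] at hr
      fin_cases a <;> simp [h, hr])
    (fun a => by fin_cases a <;> simp [Fin.rev_rev, hμ, show Fin.rev (1 : Fin 3) = 1 from rfl,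
      show Fin.rev (0 : Fin 3) = 2 from rfl, show Fin.rev (2 : Fin 3) = 0 from rfl])

/-- Two pairs. -/
def quad (i j : Fin n) (h : i < j) (h' : j < j.rev) : RevEmb 4 n :=
  .ofTuple ![i, j, j.rev, i.rev]
    (Fin.strictMono_iff_lt_succ.mpr fun a => by fin_cases a <;> simp [h, h', Fin.rev_lt_rev.mpr h])
    (fun a => by fin_cases a <;> simp [Fin.rev_rev, show Fin.rev (1 : Fin 4) = 2 from rfl,
      show Fin.rev (0 : Fin 4) = 3 from rfl, show Fin.rev (2 : Fin 4) = 1 from rfl,
      show Fin.rev (3 : Fin 4) = 0 from rfl])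

/-- Two pairs with the middle. -/
def quint (i j μ : Fin n) (hμ : μ.rev = μ) (h : i < j) (h' : j < μ) : RevEmb 5 n :=
  .ofTuple ![i, j, μ, j.rev, i.rev]
    (Fin.strictMono_iff_lt_succ.mpr fun a => by
      have hr := Fin.rev_lt_rev.mpr h'
      rw [hμ] at hr
      fin_cases a <;> simp [h, h', hr, Fin.rev_lt_rev.mpr h])
    (fun a => by fin_cases a <;> simp [Fin.rev_rev, hμ, show Fin.rev (1 : Fin 5) = 3 from rfl,
      show Fin.rev (0 : Fin 5) = 4 from rfl, show Fin.rev (2 : Fin 5) = 2 from rfl,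
      show Fin.rev (3 : Fin 5) = 1 from rfl, show Fin.rev (4 : Fin 5) = 0 from rfl])

theorem pair_mono (i : Fin n) (h : i < i.rev) : StrictMono (pair i h).toFun :=
  Fin.strictMono_iff_lt_succ.mpr fun a => by fin_cases a; simpa [pair, RevEmb.ofTuple] using h

theorem triple_mono (i μ : Fin n) (hμ : μ.rev = μ) (h : i < μ) : StrictMono (triple i μ hμ h).toFun :=
  Fin.strictMono_iff_lt_succ.mpr fun a => by
    have hr := Fin.rev_lt_rev.mpr h
    rw [hμ] at hr
    fin_cases a <;> simp [triple, RevEmb.ofTuple, h, hr]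

theorem quad_mono (i j : Fin n) (h : i < j) (h' : j < j.rev) : StrictMono (quad i j h h').toFun :=
  Fin.strictMono_iff_lt_succ.mpr fun a => by
    fin_cases a <;> simp [quad, RevEmb.ofTuple, h, h', Fin.rev_lt_rev.mpr h]

theorem lt_rev_of_lt {i j : Fin n} (h : i < j) (h' : j < j.rev) : i < i.rev :=
  (h.trans h').trans (Fin.rev_lt_rev.mpr h)

theorem lt_rev_of_lt_mid {i μ : Fin n} (hμ : μ.rev = μ) (h : i < μ) : i < i.rev := by
  have hr := Fin.rev_lt_rev.mpr h
  rw [hμ] at hr
  exact h.trans hr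

theorem quad_outer (i j : Fin n) (h : i < j) (h' : j < j.rev) :
    (quad i j h h').comp outer24 = pair i (lt_rev_of_lt h h') :=
  RevEmb.ext fun a => by fin_cases a <;> rfl

theorem quad_inner (i j : Fin n) (h : i < j) (h' : j < j.rev) :
    (quad i j h h').comp inner24 = pair j h' :=
  RevEmb.ext fun a => by fin_cases a <;> rfl

theorem quint_four (i j μ : Fin n) (hμ : μ.rev = μ) (h : i < j) (h' : j < μ) :
    (quint i j μ hμ h h').comp four5 = quad i j h (lt_rev_of_lt_mid hμ h') :=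
  RevEmb.ext fun a => by fin_cases a <;> rfl

theorem quint_outer (i j μ : Fin n) (hμ : μ.rev = μ) (h : i < j) (h' : j < μ) :
    (quint i j μ hμ h h').comp outer35 = triple i μ hμ (h.trans h') :=
  RevEmb.ext fun a => by fin_cases a <;> rfl

theorem quint_inner (i j μ : Fin n) (hμ : μ.rev = μ) (h : i < j) (h' : j < μ) :
    (quint i j μ hμ h h').comp inner35 = triple j μ hμ h' :=
  RevEmb.ext fun a => by fin_cases a <;> rfl

/-- Long root element. -/
def xL (i : Fin n) (h : i < i.rev) (c : F) (hc : c + σ c = 0) : antiSU n hσ := emb (pair i h) (long2 c hc)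

/-- Root element through the middle. -/
def xM (i μ : Fin n) (hμ : μ.rev = μ) (h : i < μ) (b c : F) (hbc : c + σ c + b * σ b = 0) :
    antiSU n hσ := emb (triple i μ hμ h) (mid3 b c hbc)

/-- Levi root element. -/
def xA (i j : Fin n) (h : i < j) (h' : j < j.rev) (a : F) : antiSU n hσ := emb (quad i j h h') (shortA a)

/-- Radical root element. -/
def xB (i j : Fin n) (h : i < j) (h' : j < j.rev) (a : F) : antiSU n hσ := emb (quad i j h h') (shortB a)

theorem long2_mem (c : F) (hc : c + σ c = 0) : long2 (hσ := hσ) c hc ∈ sylU 2 hσ := by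
  rw [mem_sylU, long2, mat_mk]
  intro r s h; fin_cases r <;> fin_cases s <;> simp at h ⊢

theorem mid3_mem (b c : F) (h : c + σ c + b * σ b = 0) : mid3 (hσ := hσ) b c h ∈ sylU 3 hσ := by
  rw [mem_sylU, mid3, mat_mk]
  intro r s h; fin_cases r <;> fin_cases s <;> simp at h ⊢

theorem shortA_mem (a : F) : shortA (hσ := hσ) a ∈ sylU 4 hσ := by
  rw [mem_sylU, shortA, mat_mk]
  intro r s h; fin_cases r <;> fin_cases s <;> simp at h ⊢

theorem shortB_mem (a : F) : shortB (hσ := hσ) a ∈ sylU 4 hσ := by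
  rw [mem_sylU, shortB, mat_mk]
  intro r s h; fin_cases r <;> fin_cases s <;> simp at h ⊢

theorem xL_mem (i : Fin n) (h : i < i.rev) (c : F) (hc : c + σ c = 0) : xL (hσ := hσ) i h c hc ∈ sylU n hσ :=
  emb_mem_sylU (pair_mono i h) (long2_mem c hc)

theorem xM_mem (i μ : Fin n) (hμ : μ.rev = μ) (h : i < μ) (b c : F) (hbc : c + σ c + b * σ b = 0) :
    xM (hσ := hσ) i μ hμ h b c hbc ∈ sylU n hσ :=
  emb_mem_sylU (triple_mono i μ hμ h) (mid3_mem b c hbc)

theorem xA_mem (i j : Fin n) (h : i < j) (h' : j < j.rev) (a : F) : xA (hσ := hσ) i j h h' a ∈ sylU n hσ :=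
  emb_mem_sylU (quad_mono i j h h') (shortA_mem a)

theorem xB_mem (i j : Fin n) (h : i < j) (h' : j < j.rev) (a : F) : xB (hσ := hσ) i j h h' a ∈ sylU n hσ :=
  emb_mem_sylU (quad_mono i j h h') (shortB_mem a)

theorem exists_mid (hσ : IsConj σ) (b : F) : ∃ c : F, c + σ c + b * σ b = 0 := by
  obtain ⟨θ, hθ⟩ := hσ.exists_trace_one
  exact ⟨-(b * σ b) * θ, by rw [map_mul, map_neg, hσ.norm_mem]; linear_combination -(b * σ b) * hθ⟩

/-- A row of an embedded matrix. -/
theorem emb_row {ψ : RevEmb k n} (hm : StrictMono ψ.toFun) (g : antiSU k hσ) {a₀ b₀ : Fin k}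
    (h1 : ∀ b, b ≠ b₀ → mat g a₀ b = (1 : Matrix (Fin k) (Fin k) F) a₀ b)
    (h2 : ∀ a, a₀ < a → ∀ b, mat g a b = (1 : Matrix (Fin k) (Fin k) F) a b) :
    (∀ s, s ≠ ψ b₀ → mat (emb ψ g) (ψ a₀) s = (1 : Matrix (Fin n) (Fin n) F) (ψ a₀) s) ∧
      mat (emb ψ g) (ψ a₀) (ψ b₀) = mat g a₀ b₀ ∧
      ∀ r, ψ a₀ < r → ∀ s, mat (emb ψ g) r s = (1 : Matrix (Fin n) (Fin n) F) r s := by
  refine ⟨fun s hs => ?_, embMat_apply_apply ψ.inj _ _ _, fun r hr s => ?_⟩
  · rw [mat_emb]
    by_cases hb : ∃ b, s = ψ b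
    · obtain ⟨b, rfl⟩ := hb
      rw [embMat_apply_apply ψ.inj, h1 b (fun e => hs (by rw [e]))]
      simp [Matrix.one_apply, ψ.inj.eq_iff]
    · exact embMat_apply_right _ _ (not_exists.mp hb)
  · rw [mat_emb]
    by_cases ha : ∃ a, r = ψ a
    · obtain ⟨a, rfl⟩ := ha
      by_cases hb : ∃ b, s = ψ b
      · obtain ⟨b, rfl⟩ := hb
        rw [embMat_apply_apply ψ.inj, h2 a (hm.lt_iff_lt.mp hr) b]
        simp [Matrix.one_apply, ψ.inj.eq_iff]
      · exact embMat_apply_right _ _ (not_exists.mp hb)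
    · exact embMat_apply_left _ (not_exists.mp ha) s

/-- The unipotent group is generated by root elements. -/
theorem sylU_le (H : Subgroup (antiSU n hσ))
    (hL : ∀ (i : Fin n) (h : i < i.rev) (c : F) (hc : c + σ c = 0), xL i h c hc ∈ H)
    (hM : ∀ (i μ : Fin n) (hμ : μ.rev = μ) (h : i < μ) (b c : F) (hbc : c + σ c + b * σ b = 0),
      xM i μ hμ h b c hbc ∈ H)
    (hA : ∀ (i j : Fin n) (h : i < j) (h' : j < j.rev) (a : F), xA i j h h' a ∈ H)
    (hB : ∀ (i j : Fin n) (h : i < j) (h' : j < j.rev) (a : F), xB i j h h' a ∈ H) :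
    sylU n hσ ≤ H := by
  classical
  suffices key : ∀ (t : ℕ) (g : antiSU n hσ), g ∈ sylU n hσ →
      (∀ r : Fin n, t ≤ r.1 → ∀ s, mat g r s = (1 : Matrix (Fin n) (Fin n) F) r s) → g ∈ H from
    fun g hg => key n g hg fun r hr => absurd r.2 (Nat.not_lt.mpr hr)
  intro t
  induction t with
  | zero =>
    intro g _ h
    rw [show g = 1 from mat_injective (by ext r s; exact h r (Nat.zero_le _) s)]
    exact one_mem H
  | succ t ih =>
    intro g hg h
    by_cases ht : t < n
    swap
    · exact ih g hg fun r hr => absurd r.2 (by omega)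
    obtain ⟨k, hk⟩ : ∃ k : Fin n, k.1 = t := ⟨⟨t, ht⟩, rfl⟩
    induction hN : (Finset.univ.filter fun j : Fin n => k < j ∧ mat g k j ≠ 0).card
      using Nat.strong_induction_on generalizing g with
    | _ N ihN =>
    rcases (Finset.univ.filter fun j : Fin n => k < j ∧ mat g k j ≠ 0).eq_empty_or_nonempty with he | he
    · refine ih g hg fun r hr s => ?_
      rcases eq_or_lt_of_le hr with e | e
      · obtain rfl : r = k := Fin.ext (e.symm.trans hk.symm)
        rcases le_or_gt s r with hs | hs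
        · rw [mem_sylU.mp hg r s hs, Matrix.one_apply]
        · rw [Matrix.one_apply_ne hs.ne]
          by_contra h0
          exact Finset.notMem_empty s (he ▸ Finset.mem_filter.mpr ⟨Finset.mem_univ _, hs, h0⟩)
      · exact h r e s
    obtain ⟨j, hj⟩ := he
    obtain ⟨hkj, hc⟩ := (Finset.mem_filter.mp hj).2
    have hrows : ∀ r, k < r → ∀ s, mat g r s = (1 : Matrix (Fin n) (Fin n) F) r s := fun r hr s =>
      h r (by have := Fin.lt_def.1 hr; omega) s
    have hinv : ∀ r, k < r → ∀ s, mat g⁻¹ r s = (1 : Matrix (Fin n) (Fin n) F) r s := fun r hr s => by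
      have h1 : (mat g * mat g⁻¹) r s = (1 : Matrix (Fin n) (Fin n) F) r s := by
        rw [← mat_mul, mul_inv_cancel, mat_one]
      rw [Matrix.mul_apply, Finset.sum_eq_single r (fun x _ hx => by
        rw [hrows r hr, Matrix.one_apply_ne hx.symm, zero_mul]) (by simp), hrows r hr,
        Matrix.one_apply_eq, one_mul] at h1
      exact h1
    have hjk : j.rev ≤ k := not_lt.mp fun hlt => hc <| by
      have h1 := hinv j.rev hlt k.rev
      rw [inv_apply, Fin.rev_rev, Fin.rev_rev, Matrix.one_apply_ne (fun e => hkj.ne' (Fin.rev_inj.mp e))] at h1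
      exact (map_eq_zero σ).mp h1
    set c := mat g k j with hcdef
    obtain ⟨x, hxH, hxU, hx1, hx2, hx3⟩ : ∃ x : antiSU n hσ, x ∈ H ∧ x ∈ sylU n hσ ∧
        (∀ s, s ≠ j → mat x k s = (1 : Matrix (Fin n) (Fin n) F) k s) ∧ mat x k j = -c ∧
        ∀ r, k < r → ∀ s, mat x r s = (1 : Matrix (Fin n) (Fin n) F) r s := by
      rcases lt_trichotomy k k.rev with hkμ | hkμ | hkμ
      · rcases eq_or_lt_of_le hjk with e | e
        · -- a long root
          have hje : j = k.rev := by rw [← e, Fin.rev_rev]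
          have hsk : c + σ c = 0 := by
            have h1 : (mat g * mat g⁻¹) k j = 0 := by
              rw [← mat_mul, mul_inv_cancel, mat_one, Matrix.one_apply_ne hkj.ne]
            rw [Matrix.mul_apply, ← Finset.sum_subset (Finset.subset_univ {k, j}), Finset.sum_pair hkj.ne,
              mem_sylU.mp hg k k le_rfl, if_pos rfl, one_mul, hinv j hkj, Matrix.one_apply_eq, mul_one,
              inv_apply, hje, Fin.rev_rev, ← hje] at h1
            · linear_combination h1
            intro x _ hx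
            simp only [Finset.mem_insert, Finset.mem_singleton, not_or] at hx
            rcases lt_or_gt_of_ne hx.1 with hlt | hgt
            · rw [mem_sylU.mp hg k x hlt.le, if_neg (Ne.symm hx.1), zero_mul]
            · rw [hinv x hgt, Matrix.one_apply_ne hx.2, mul_zero]
          have hsk' : -c + σ (-c) = 0 := by rw [map_neg]; linear_combination -hsk
          refine ⟨xL k hkμ (-c) hsk', hL _ _ _ _, xL_mem _ _ _ _, ?_⟩
          obtain ⟨r1, r2, r3⟩ := emb_row (pair_mono k hkμ) (long2 (-c) hsk') (hσ := hσ) (a₀ := 0) (b₀ := 1)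
            (fun b hb => by fin_cases b <;> simp [long2, mat_mk, Matrix.one_apply] at hb ⊢)
            (fun a ha b => by fin_cases a <;> fin_cases b <;> simp [long2, mat_mk] at ha ⊢)
          have e1 : (pair k hkμ) 1 = j := hje.symm
          rw [e1] at r1 r2
          exact ⟨r1, r2, r3⟩
        · refine ⟨xB j.rev k e hkμ (σ c), hB _ _ _ _ _, xB_mem _ _ _ _ _, ?_⟩
          obtain ⟨r1, r2, r3⟩ := emb_row (quad_mono j.rev k e hkμ) (shortB (σ c)) (hσ := hσ)
            (a₀ := 1) (b₀ := 3)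
            (fun b hb => by fin_cases b <;> simp [shortB, mat_mk, Matrix.one_apply] at hb ⊢)
            (fun a ha b => by fin_cases a <;> fin_cases b <;> simp [shortB, mat_mk] at ha ⊢)
          have e1 : (quad j.rev k e hkμ) 3 = j := Fin.rev_rev j
          rw [e1] at r1 r2
          exact ⟨r1, r2.trans (by simp [shortB, mat_mk, hσ.invol]), r3⟩
      · have hlt : j.rev < k := by rw [hkμ]; exact Fin.rev_lt_rev.mpr hkj
        obtain ⟨c', hc'⟩ := exists_mid hσ (σ c)
        refine ⟨xM j.rev k hkμ.symm hlt (σ c) c' hc', hM _ _ _ _ _ _ _, xM_mem _ _ _ _ _ _ _, ?_⟩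
        obtain ⟨r1, r2, r3⟩ := emb_row (triple_mono j.rev k hkμ.symm hlt) (mid3 (σ c) c' hc') (hσ := hσ)
          (a₀ := 1) (b₀ := 2)
          (fun b hb => by fin_cases b <;> simp [mid3, mat_mk, Matrix.one_apply] at hb ⊢)
          (fun a ha b => by fin_cases a <;> fin_cases b <;> simp [mid3, mat_mk] at ha ⊢)
        have e1 : (triple j.rev k hkμ.symm hlt) 2 = j := Fin.rev_rev j
        rw [e1] at r1 r2
        exact ⟨r1, r2.trans (by simp [mid3, mat_mk, hσ.invol]), r3⟩
      · have hlt : j.rev < k.rev := Fin.rev_lt_rev.mpr hkj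
        have hlt' : k.rev < k.rev.rev := by rw [Fin.rev_rev]; exact hkμ
        refine ⟨xA j.rev k.rev hlt hlt' (σ c), hA _ _ _ _ _, xA_mem _ _ _ _ _, ?_⟩
        obtain ⟨r1, r2, r3⟩ := emb_row (quad_mono j.rev k.rev hlt hlt') (shortA (σ c)) (hσ := hσ)
          (a₀ := 2) (b₀ := 3)
          (fun b hb => by fin_cases b <;> simp [shortA, mat_mk, Matrix.one_apply] at hb ⊢)
          (fun a ha b => by fin_cases a <;> fin_cases b <;> simp [shortA, mat_mk] at ha ⊢)
        have e1 : (quad j.rev k.rev hlt hlt') 3 = j := Fin.rev_rev j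
        have e2 : (quad j.rev k.rev hlt hlt') 2 = k := Fin.rev_rev k
        rw [e2] at r1 r2 r3
        rw [e1] at r1 r2
        exact ⟨r1, r2.trans (by simp [shortA, mat_mk, hσ.invol]), r3⟩
    have hprod : ∀ r, k ≤ r → ∀ s, mat (x * g) r s =
        if r = k ∧ s = j then 0 else mat g r s := by
      intro r hr s
      rw [mat_mul, Matrix.mul_apply]
      rcases eq_or_lt_of_le hr with rfl | hr'
      · rw [← Finset.sum_subset (Finset.subset_univ {k, j}), Finset.sum_pair hkj.ne,
          hx1 k hkj.ne, Matrix.one_apply_eq, one_mul, hx2, hrows j hkj]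
        · rcases eq_or_ne s j with rfl | hs
          · rw [if_pos ⟨rfl, rfl⟩, Matrix.one_apply_eq, mul_one, ← hcdef, add_neg_cancel]
          · rw [if_neg (fun e => hs e.2), Matrix.one_apply_ne hs.symm, mul_zero, add_zero]
        · intro y _ hy
          simp only [Finset.mem_insert, Finset.mem_singleton, not_or] at hy
          rw [hx1 y hy.2, Matrix.one_apply_ne (Ne.symm hy.1), zero_mul]
      · rw [if_neg (fun e => hr'.ne' e.1), Finset.sum_eq_single r
          (fun y _ hy => by rw [hx3 r hr', Matrix.one_apply_ne hy.symm, zero_mul]) (by simp),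
          hx3 r hr', Matrix.one_apply_eq, one_mul]
    have h2 : x * g ∈ H := by
      refine ihN _ ?_ (x * g) (mul_mem hxU hg) (fun r hr s => ?_) rfl
      · rw [← hN]
        refine Finset.card_lt_card ((Finset.ssubset_iff_of_subset fun y hy => ?_).mpr
          ⟨j, hj, by simp [hprod k le_rfl]⟩)
        simp only [Finset.mem_filter, Finset.mem_univ, true_and, hprod k le_rfl] at hy ⊢
        obtain ⟨hy1, hy2⟩ := hy
        split_ifs at hy2 with hh
        · exact absurd rfl hy2
        · exact ⟨hy1, hy2⟩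
      · rw [hprod r (Fin.le_def.2 (by omega)) s,
          if_neg (fun e => by have := congrArg Fin.val e.1; omega), h r hr s]
    simpa using mul_mem (inv_mem hxH) h2

/-- Enough root elements to see every adjacent pair. -/
theorem exists_pivot {r j : Fin n} (hrj : r.1 + 1 = j.1) :
    ∃ u ∈ sylU n hσ, mat u r j ≠ 0 := by
  obtain ⟨ε, hε0, hε⟩ := hσ.exists_skew
  obtain ⟨c, hc⟩ := exists_mid hσ (1 : F)
  have hlt : r < j := Fin.lt_def.2 (by omega)
  rcases lt_trichotomy j r.rev with h1 | h1 | h1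
  · rcases lt_trichotomy j j.rev with h2 | h2 | h2
    · refine ⟨xA r j hlt h2 1, xA_mem _ _ _ _ _, ?_⟩
      rw [xA, mat_emb]
      show embMat (quad r j hlt h2) _ ((quad r j hlt h2) 0) ((quad r j hlt h2) 1) ≠ 0
      rw [embMat_apply_apply (quad r j hlt h2).inj]
      simp [shortA, mat_mk]
    · refine ⟨xM r j h2.symm hlt 1 c hc, xM_mem _ _ _ _ _ _ _, ?_⟩
      rw [xM, mat_emb]
      show embMat (triple r j h2.symm hlt) _ ((triple r j h2.symm hlt) 0) ((triple r j h2.symm hlt) 1) ≠ 0
      rw [embMat_apply_apply (triple r j h2.symm hlt).inj]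
      simp [mid3, mat_mk]
    · exfalso
      simp only [Fin.lt_def, Fin.val_rev] at h1 h2
      omega
  · have h2 : r < r.rev := h1 ▸ hlt
    refine ⟨xL r h2 ε hε, xL_mem _ _ _ _, ?_⟩
    rw [xL, mat_emb, h1]
    show embMat (pair r h2) _ ((pair r h2) 0) ((pair r h2) 1) ≠ 0
    rw [embMat_apply_apply (pair r h2).inj]
    simpa [long2, mat_mk] using hε0
  · have hlt' : j.rev < r.rev := Fin.rev_lt_rev.mpr hlt
    rcases eq_or_ne r.rev r with h2 | h2
    · refine ⟨xM j.rev r h2 (by rwa [h2] at hlt') 1 c hc, xM_mem _ _ _ _ _ _ _, ?_⟩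
      rw [xM, mat_emb]
      generalize hψ : triple j.rev r h2 (by rwa [h2] at hlt') = ψ
      have e1 : ψ 1 = r := by rw [← hψ]; rfl
      have e2 : ψ 2 = j := by rw [← hψ]; exact Fin.rev_rev j
      rw [← e1, ← e2, embMat_apply_apply ψ.inj]
      simp [mid3, mat_mk]
    · have h3 : r.rev < r.rev.rev := by
        rw [Fin.rev_rev]
        refine lt_of_le_of_ne ?_ h2
        simp only [Fin.le_def, Fin.lt_def, Fin.val_rev] at h1 ⊢
        omega
      refine ⟨xA j.rev r.rev hlt' h3 1, xA_mem _ _ _ _ _, ?_⟩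
      rw [xA, mat_emb]
      generalize hψ : quad j.rev r.rev hlt' h3 = ψ
      have e1 : ψ 2 = r := by rw [← hψ]; exact Fin.rev_rev r
      have e2 : ψ 3 = j := by rw [← hψ]; exact Fin.rev_rev j
      rw [← e1, ← e2, embMat_apply_apply ψ.inj]
      simp [shortA, mat_mk]

end Cfsg.Lib.Fusion.PSU
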